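import Cfsg.Agent.Lib.NilpotentCover.Basic

/-!
# Nilpotent minimal covers and abelian Sylow subgroups
-/

set_option autoImplicit false

namespace Cfsg.Agent.Lib.NilpotentCover.AbelianSylow

open Cfsg.Agent.Lib.NilpotentCover.Basic

variable {G : Type*} [Group G] [Finite G] {p : ℕ} [hp : Fact p.Prime]

/-- With abelian Sylow subgroups the `p`-elements of a nilpotent subgroup are central in it. -/
theorem mem_centralizer_of_pElement (P : Sylow p G) (hab : IsMulCommutative ↥(P : Subgroup G))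
    {A : Subgroup G} (hA : Group.IsNilpotent A) {u : G} (hu : u ∈ A) {k : ℕ} (hk : u ^ p ^ k = 1) :
    A ≤ Subgroup.centralizer ({u} : Set G) := by
  obtain ⟨T, hT⟩ : ∃ T : Sylow p A, (⟨u, hu⟩ : A) ∈ (T : Subgroup A) := by
    have hpu : IsPGroup p (Subgroup.zpowers (⟨u, hu⟩ : A)) := by
      obtain ⟨i, _, hi⟩ := (Nat.dvd_prime_pow hp.out).1
        (orderOf_dvd_of_pow_eq_one (n := p ^ k) (x := (⟨u, hu⟩ : A)) (Subtype.ext hk))
      exact IsPGroup.of_card (by rw [Nat.card_zpowers, hi])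
    obtain ⟨T, hT⟩ := hpu.exists_le_sylow
    exact ⟨T, hT (Subgroup.mem_zpowers _)⟩
  set C := Subgroup.centralizer ({(⟨u, hu⟩ : A)} : Set A)
  have hC : C = ⊤ := by
    rw [← Subgroup.card_eq_iff_eq_top]
    refine Nat.dvd_antisymm (Subgroup.card_subgroup_dvd_card C)
      ((Nat.factorization_prime_le_iff_dvd Nat.card_pos.ne' Nat.card_pos.ne').1 fun r hr => ?_)
    have := Fact.mk hr
    obtain ⟨R⟩ := (inferInstance : Nonempty (Sylow r A))
    have hRn : (R : Subgroup A).Normal :=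
      Sylow.normal_of_normalizerCondition Group.normalizerCondition_of_isNilpotent R
    have hTn : (T : Subgroup A).Normal :=
      Sylow.normal_of_normalizerCondition Group.normalizerCondition_of_isNilpotent T
    have hle : (R : Subgroup A) ≤ C := by
      intro x hx
      rw [Subgroup.mem_centralizer_singleton_iff]
      rcases eq_or_ne r p with rfl | hne
      · have : Subsingleton (Sylow r A) := (Sylow.unique_of_normal T hTn).instSubsingleton
        rw [Subsingleton.elim R T] at hx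
        obtain ⟨Q, hQ⟩ := (T.2.map A.subtype).exists_le_sylow
        obtain ⟨g, hg⟩ := MulAction.exists_smul_eq G Q P
        have hmem : ∀ y : A, y ∈ (T : Subgroup A) → g * (y : G) * g⁻¹ ∈ (P : Subgroup G) := fun y hy => by
          rw [← hg, Sylow.coe_subgroup_smul]
          exact Subgroup.smul_mem_pointwise_smul (a := MulAut.conj g) (y : G) (Q : Subgroup G)
            (hQ ⟨y, hy, rfl⟩)
        refine Subtype.ext ?_
        have h := congrArg Subtype.val (hab.is_comm.comm ⟨_, hmem x hx⟩ ⟨_, hmem _ hT⟩)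
        have h' := congrArg (fun z => g⁻¹ * z * g) h
        simpa [mul_assoc] using h'
      · exact Subgroup.commute_of_normal_of_disjoint _ _ hRn hTn
          (IsPGroup.disjoint_of_ne r p hne _ _ R.2 T.2) x _ hx hT
    have h1 := Subgroup.card_dvd_of_le hle
    rw [R.card_eq_multiplicity] at h1
    exact (hr.pow_dvd_iff_le_factorization Nat.card_pos.ne').1 h1
  intro a ha
  have h : (⟨a, ha⟩ : A) ∈ C := hC ▸ Subgroup.mem_top _
  rw [Subgroup.mem_centralizer_singleton_iff] at h ⊢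
  exact congrArg Subtype.val h

theorem centralizer_ne_top (hZ : Subgroup.center G = ⊥) {y : G} (hy : y ≠ 1) :
    Subgroup.centralizer ({y} : Set G) ≠ ⊤ := fun h => hy (by
  rw [← Subgroup.mem_bot, ← hZ, Subgroup.mem_center_iff]
  exact fun g => Subgroup.mem_centralizer_singleton_iff.1 (h ▸ Subgroup.mem_top g))

/-- Two members cannot lie in the centralizer of one nontrivial element. -/
theorem eq_of_le_centralizer (hZ : Subgroup.center G = ⊥) {𝓐 : Finset (Subgroup G)} (hc : IsCover 𝓐)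
    (hmin : ∀ 𝓑 : Finset (Subgroup G), IsCover 𝓑 → 𝓐.card ≤ 𝓑.card) {y : G} (hy : y ≠ 1)
    {A A' : Subgroup G} (hA : A ∈ 𝓐) (hA' : A' ∈ 𝓐) (h : A ≤ Subgroup.centralizer ({y} : Set G))
    (h' : A' ≤ Subgroup.centralizer ({y} : Set G)) : A = A' :=
  by_contra fun hne => false_of_two_le hc hmin hA hA' hne (centralizer_ne_top hZ hy) h h'

theorem exists_pow_of_mem (P : Sylow p G) {u : G} (hu : u ∈ (P : Subgroup G)) : ∃ k, u ^ p ^ k = 1 := by
  obtain ⟨k, hk⟩ := P.2 ⟨u, hu⟩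
  exact ⟨k, congrArg Subtype.val hk⟩

/-- A `p`-element normalising `P` lies in `P`. -/
theorem mem_of_normalizes (P : Sylow p G) {u : G} {k : ℕ} (hk : u ^ p ^ k = 1)
    (hu : u ∈ Subgroup.normalizer ((P : Subgroup G) : Set G)) : u ∈ (P : Subgroup G) := by
  obtain ⟨i, -, hi⟩ := (Nat.dvd_prime_pow hp.out).1 (orderOf_dvd_of_pow_eq_one hk)
  have hU : IsPGroup p (Subgroup.zpowers u) := IsPGroup.of_card (by rw [Nat.card_zpowers, hi])
  have h := IsPGroup.to_sup_of_normal_left' P.2 hU (Subgroup.zpowers_le.2 hu)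
  have h2 := P.3 h le_sup_left
  exact h2 ▸ Subgroup.mem_sup_right (Subgroup.mem_zpowers u)

/-- Some member contains `P`. -/
theorem exists_member (hZ : Subgroup.center G = ⊥) {𝓐 : Finset (Subgroup G)} (hc : IsCover 𝓐)
    (hmin : ∀ 𝓑 : Finset (Subgroup G), IsCover 𝓑 → 𝓐.card ≤ 𝓑.card)
    (hnil : ∀ A ∈ 𝓐, Group.IsNilpotent ↥A) (P : Sylow p G) (hab : IsMulCommutative ↥(P : Subgroup G))
    (hP : IsCyclic ↥(P : Subgroup G) ∨ ∃ u ∈ (P : Subgroup G), u ^ p ≠ 1) :
    ∃ A ∈ 𝓐, (P : Subgroup G) ≤ A := by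
  have hpel : ∀ {u : G}, u ∈ (P : Subgroup G) → ∃ k, u ^ p ^ k = 1 := fun {u} => exists_pow_of_mem P
  have hone : ∀ {y : G}, y ≠ 1 → ∀ {A A' : Subgroup G}, A ∈ 𝓐 → A' ∈ 𝓐 →
      A ≤ Subgroup.centralizer ({y} : Set G) → A' ≤ Subgroup.centralizer ({y} : Set G) → A = A' :=
    fun hy _ _ => eq_of_le_centralizer hZ hc hmin hy
  have hcp : ∀ {u : G} (n : ℕ), Subgroup.centralizer ({u} : Set G) ≤ Subgroup.centralizer ({u ^ n} : Set G) :=
    fun n a ha => Subgroup.mem_centralizer_singleton_iff.2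
      (Commute.pow_right (Subgroup.mem_centralizer_singleton_iff.1 ha) n).eq
  rcases hP with hcy | ⟨u, hu, hup⟩
  · obtain ⟨g, hg⟩ := IsCyclic.exists_generator (α := (P : Subgroup G))
    obtain ⟨A, hA, hgA⟩ := hc.2 (g : G)
    refine ⟨A, hA, fun x hx => ?_⟩
    obtain ⟨i, hi⟩ := Subgroup.mem_zpowers_iff.1 (hg ⟨x, hx⟩)
    have hi' : (g : G) ^ i = x := congrArg Subtype.val hi
    exact hi' ▸ zpow_mem hgA i
  · have hkey : ∀ v ∈ (P : Subgroup G), v ^ p ≠ 1 → ∀ A ∈ 𝓐, v ∈ A →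
        ∀ w ∈ (P : Subgroup G), w ^ p = 1 → w ∈ A := by
      intro v hv hvp A hA hvA w hw hwp
      obtain ⟨A', hA', hvwA'⟩ := hc.2 (v * w)
      obtain ⟨k, hk⟩ := hpel hv
      obtain ⟨k', hk'⟩ := hpel (mul_mem hv hw)
      have hpow : (v * w) ^ p = v ^ p := by
        have hcomm : Commute v w := congrArg Subtype.val (hab.is_comm.comm ⟨v, hv⟩ ⟨w, hw⟩)
        rw [hcomm.mul_pow, hwp, mul_one]
      have h := hone hvp hA hA' ((mem_centralizer_of_pElement P hab (hnil A hA) hvA hk).trans (hcp p))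
        (hpow ▸ (mem_centralizer_of_pElement P hab (hnil A' hA') hvwA' hk').trans (hcp p))
      subst h
      exact (Subgroup.mul_mem_cancel_left A hvA).1 hvwA'
    obtain ⟨z, hz, hz1, hzp⟩ : ∃ z ∈ (P : Subgroup G), z ≠ 1 ∧ z ^ p = 1 := by
      have hPne : (⟨u, hu⟩ : (P : Subgroup G)) ≠ 1 := fun h => hup (by
        rw [show u = 1 from congrArg Subtype.val h, one_pow])
      obtain ⟨k, hk⟩ := IsPGroup.iff_orderOf.1 P.2 ⟨u, hu⟩
      have hk0 : k ≠ 0 := fun h => hPne (orderOf_eq_one_iff.1 (by rw [hk, h, pow_zero]))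
      obtain ⟨z, hz⟩ := exists_prime_orderOf_dvd_card' (G := (P : Subgroup G)) p
        ((dvd_pow_self p hk0).trans (hk ▸ orderOf_dvd_natCard _))
      refine ⟨z, z.2, fun h => ?_, ?_⟩
      · rw [← Subgroup.orderOf_coe, h, orderOf_one] at hz
        exact hp.out.one_lt.ne hz
      · exact orderOf_dvd_iff_pow_eq_one.1 (by rw [Subgroup.orderOf_coe, hz])
    obtain ⟨A, hA, huA⟩ := hc.2 u
    refine ⟨A, hA, fun v hv => ?_⟩
    by_cases hvp : v ^ p = 1
    · exact hkey u hu hup A hA huA v hv hvp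
    · obtain ⟨A', hA', hvA'⟩ := hc.2 v
      have h := hone hz1 hA hA'
        (mem_centralizer_of_pElement P hab (hnil A hA) (hkey u hu hup A hA huA z hz hzp) (k := 1) (by rwa [pow_one]))
        (mem_centralizer_of_pElement P hab (hnil A' hA') (hkey v hv hvp A' hA' hvA' z hz hzp) (k := 1) (by rwa [pow_one]))
      rwa [h]

/-- A member containing `P` is its centralizer. -/
theorem centralizer_eq (hZ : Subgroup.center G = ⊥) {𝓐 : Finset (Subgroup G)} (hc : IsCover 𝓐)
    (hmin : ∀ 𝓑 : Finset (Subgroup G), IsCover 𝓑 → 𝓐.card ≤ 𝓑.card)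
    (hnil : ∀ A ∈ 𝓐, Group.IsNilpotent ↥A) (P : Sylow p G) (hab : IsMulCommutative ↥(P : Subgroup G))
    (hP1 : (P : Subgroup G) ≠ ⊥) {A : Subgroup G} (hA : A ∈ 𝓐) (hPA : (P : Subgroup G) ≤ A) :
    Subgroup.centralizer ((P : Subgroup G) : Set G) = A := by
  refine le_antisymm (fun c hc' => ?_) fun b hb => ?_
  · obtain ⟨u, hu, hu1⟩ : ∃ u ∈ (P : Subgroup G), u ≠ 1 := by
      by_contra h
      push Not at h
      exact hP1 ((Subgroup.eq_bot_iff_forall _).2 h)
    obtain ⟨k, hk⟩ := exists_pow_of_mem P hu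
    obtain ⟨a, m, hm, hn⟩ := Nat.exists_eq_pow_mul_and_not_dvd (orderOf_pos c).ne' p hp.out.ne_one
    have hcop : ∀ j, (p ^ j).Coprime m := fun j => Nat.Coprime.pow_left j (hp.out.coprime_iff_not_dvd.2 hm)
    have hcu : Commute c u := ((Subgroup.mem_centralizer_iff.1 hc') u hu).symm
    have hcm : c ^ m ∈ A := by
      refine hPA (mem_of_normalizes P (k := a) ?_ (Subgroup.centralizer_le_normalizer _ (pow_mem hc' m)))
      rw [← pow_mul, mul_comm, ← hn, pow_orderOf_eq_one]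
    obtain ⟨B, hB, hB'⟩ := hc.2 (c ^ p ^ a * u)
    have h1 : (c ^ p ^ a * u) ^ m = u ^ m := by
      rw [(hcu.pow_left _).mul_pow, ← pow_mul, ← hn, pow_orderOf_eq_one, one_mul]
    have huB : u ∈ B := by
      have h2 : (orderOf u).Coprime m := (hcop k).coprime_dvd_left (orderOf_dvd_of_pow_eq_one hk)
      obtain ⟨i, hi⟩ := exists_pow_eq_self_of_coprime h2.symm
      rw [← hi, ← h1]
      exact pow_mem (pow_mem hB' m) i
    have hBA : B = A := eq_of_le_centralizer hZ hc hmin hu1 hB hA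
      (mem_centralizer_of_pElement P hab (hnil B hB) huB hk)
      (mem_centralizer_of_pElement P hab (hnil A hA) (hPA hu) hk)
    subst hBA
    have hcp : c ^ p ^ a ∈ B := (Subgroup.mul_mem_cancel_right B huB).1 hB'
    have hbez := Nat.gcd_eq_gcd_ab (p ^ a) m
    rw [(hcop a).gcd_eq_one, Nat.cast_one] at hbez
    have h3 : c = (c ^ p ^ a) ^ Nat.gcdA (p ^ a) m * (c ^ m) ^ Nat.gcdB (p ^ a) m := by
      rw [← zpow_natCast, ← zpow_natCast c m, ← zpow_mul, ← zpow_mul, ← zpow_add, ← hbez, zpow_one]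
    rw [h3]
    exact mul_mem (zpow_mem hcp _) (zpow_mem hcm _)
  · rw [Subgroup.mem_centralizer_iff]
    intro x hx
    obtain ⟨k, hk⟩ := exists_pow_of_mem P hx
    exact (Subgroup.mem_centralizer_singleton_iff.1
      (mem_centralizer_of_pElement P hab (hnil A hA) (hPA hx) hk hb)).symm

/-- The structure behind S3890 and S3891. -/
theorem main (hZ : Subgroup.center G = ⊥) {𝓐 : Finset (Subgroup G)} (hc : IsCover 𝓐)
    (hmin : ∀ 𝓑 : Finset (Subgroup G), IsCover 𝓑 → 𝓐.card ≤ 𝓑.card)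
    (hnil : ∀ A ∈ 𝓐, Group.IsNilpotent ↥A) (P : Sylow p G) (hab : IsMulCommutative ↥(P : Subgroup G))
    (hnn : ¬ (P : Subgroup G).Normal)
    (hP : IsCyclic ↥(P : Subgroup G) ∨ ∃ u ∈ (P : Subgroup G), u ^ p ≠ 1) :
    ∃ A ∈ 𝓐, (P : Subgroup G) ≤ A ∧ Subgroup.centralizer ((P : Subgroup G) : Set G) = A ∧
      (∀ M : Subgroup G, IsCoatom M → A ≤ M → M = Subgroup.normalizer ((P : Subgroup G) : Set G)) ∧
      IsCoatom (Subgroup.normalizer ((P : Subgroup G) : Set G)) ∧
      ∀ g : G, g ∉ Subgroup.normalizer ((P : Subgroup G) : Set G) →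
        ¬ p ∣ Nat.card ↥(Subgroup.normalizer ((P : Subgroup G) : Set G) ⊓
          (Subgroup.normalizer ((P : Subgroup G) : Set G)).map (MulAut.conj g).toMonoidHom) := by
  have hP1 : (P : Subgroup G) ≠ ⊥ := fun h => hnn (h ▸ inferInstance)
  obtain ⟨A, hA, hPA⟩ := exists_member hZ hc hmin hnil P hab hP
  have hCP := centralizer_eq hZ hc hmin hnil P hab hP1 hA hPA
  set N := Subgroup.normalizer ((P : Subgroup G) : Set G) with hN
  -- the member of a conjugate
  have hconj : ∀ g : G, g ∉ N → ∃ A' ∈ 𝓐, A ≠ A' ∧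
      (P : Subgroup G).map (MulAut.conj g).toMonoidHom ≤ A' ∧ A' ≤ A.map (MulAut.conj g).toMonoidHom := by
    intro g hg
    set Q : Sylow p G := g • P
    have hQ : (Q : Subgroup G) = (P : Subgroup G).map (MulAut.conj g).toMonoidHom := rfl
    let e : (P : Subgroup G) ≃* (Q : Subgroup G) :=
      ((P : Subgroup G).equivMapOfInjective _ (MulAut.conj g).injective).trans (MulEquiv.subgroupCongr hQ.symm)
    have habQ : IsMulCommutative ↥(Q : Subgroup G) := ⟨⟨fun x y => e.symm.injective (by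
      rw [map_mul, map_mul]; exact hab.is_comm.comm _ _)⟩⟩
    have hPQ : IsCyclic ↥(Q : Subgroup G) ∨ ∃ u ∈ (Q : Subgroup G), u ^ p ≠ 1 := by
      rcases hP with h | ⟨u, hu, hup⟩
      · exact Or.inl (isCyclic_of_surjective e.toMonoidHom e.surjective)
      · refine Or.inr ⟨g * u * g⁻¹, hQ ▸ ⟨u, hu, rfl⟩, fun h => hup ?_⟩
        rwa [conj_pow, conj_eq_one_iff] at h
    obtain ⟨A', hA', hQA'⟩ := exists_member hZ hc hmin hnil Q habQ hPQ
    have hQ1 : (Q : Subgroup G) ≠ ⊥ := fun h => hP1 (by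
      rwa [hQ, Subgroup.map_eq_bot_iff_of_injective _ (MulAut.conj g).injective] at h)
    have hCQ := centralizer_eq hZ hc hmin hnil Q habQ hQ1 hA' hQA'
    refine ⟨A', hA', fun h => hg ?_, hQ ▸ hQA', ?_⟩
    · have hle : (Q : Subgroup G) ≤ (P : Subgroup G) := fun x hx => by
        obtain ⟨k, hk⟩ := exists_pow_of_mem Q hx
        refine mem_of_normalizes P hk (Subgroup.centralizer_le_normalizer _ ?_)
        rw [hCP, h]
        exact hQA' hx
      have heq : (Q : Subgroup G) = (P : Subgroup G) := (Q.3 P.2 hle).symm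
      exact Sylow.smul_eq_iff_mem_normalizer.1 (Sylow.ext heq)
    · rw [← hCQ]
      intro x hx
      refine ⟨g⁻¹ * x * g, ?_, by simp [mul_assoc]⟩
      rw [← hCP]
      refine Subgroup.mem_centralizer_iff.2 fun y hy => ?_
      have h := Subgroup.mem_centralizer_iff.1 hx (g * y * g⁻¹) (hQ ▸ ⟨y, hy, rfl⟩)
      have h' := congrArg (fun z => g⁻¹ * z * g) h
      simpa [mul_assoc] using h'
  have hNtop : N ≠ ⊤ := fun h => hnn (Subgroup.normalizer_eq_top_iff.1 h)
  have hmax : ∀ M : Subgroup G, IsCoatom M → A ≤ M → M = N := by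
    intro M hM hAM
    by_contra hne
    obtain ⟨g, hgM, hgN⟩ : ∃ g ∈ M, g ∉ N := by
      by_contra h
      push Not at h
      exact hne ((le_antisymm (h : M ≤ N) ((hM.le_iff.1 (h : M ≤ N)).resolve_left hNtop).le))
    obtain ⟨A', hA', hne', -, hle⟩ := hconj g hgN
    refine false_of_two_le hc hmin hA hA' hne' hM.1 hAM (hle.trans ?_)
    rintro _ ⟨x, hx, rfl⟩
    exact mul_mem (mul_mem hgM (hAM hx)) (inv_mem hgM)
  refine ⟨A, hA, hPA, hCP, hmax, ?_, fun g hg hdvd => ?_⟩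
  · obtain ⟨M, hM, hNM⟩ := (eq_top_or_exists_le_coatom N).resolve_left hNtop
    exact hmax M hM ((hCP ▸ Subgroup.centralizer_le_normalizer _).trans hNM) ▸ hM
  · obtain ⟨⟨w, hw⟩, hwo⟩ := exists_prime_orderOf_dvd_card' p hdvd
    rw [Subgroup.orderOf_mk] at hwo
    have hwp : w ^ p ^ 1 = 1 := by rw [pow_one, ← hwo, pow_orderOf_eq_one]
    obtain ⟨hwN, v, hvN, hvw⟩ := Subgroup.mem_inf.1 hw
    have hvp : v ^ p ^ 1 = 1 := by
      refine (MulAut.conj g).injective ?_
      rw [map_pow, map_one]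
      change ((MulAut.conj g).toMonoidHom v) ^ p ^ 1 = 1
      rw [hvw, hwp]
    have hwP := mem_of_normalizes P hwp hwN
    have hvP := mem_of_normalizes P hvp hvN
    have hw1 : w ≠ 1 := fun h => hp.out.one_lt.ne (by rw [← hwo, h, orderOf_one])
    obtain ⟨A', hA', hne', hQA', -⟩ := hconj g hg
    exact hne' (eq_of_le_centralizer hZ hc hmin hw1 hA hA'
      (mem_centralizer_of_pElement P hab (hnil A hA) (hPA hwP) hwp)
      (mem_centralizer_of_pElement P hab (hnil A' hA') (hQA' ⟨v, hvP, hvw⟩) hwp))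

end Cfsg.Agent.Lib.NilpotentCover.AbelianSylow
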