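import Mathlib

/-!
# Minimal covers by subgroups, and nilpotent subgroups of linear groups containing unipotents
-/

set_option autoImplicit false

namespace Cfsg.Agent.Lib.NilpotentCover.Basic

section Cover

variable {G : Type*} [Group G]

/-- A cover by proper subgroups. -/
def IsCover (𝓐 : Finset (Subgroup G)) : Prop :=
  (∀ A ∈ 𝓐, A ≠ ⊤) ∧ (∀ g : G, ∃ A ∈ 𝓐, g ∈ A)

/-- In a minimal cover a sub-family cannot be replaced by fewer proper subgroups. -/
theorem false_of_replace {𝓐 : Finset (Subgroup G)} (hc : IsCover 𝓐)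
    (hmin : ∀ 𝓑 : Finset (Subgroup G), IsCover 𝓑 → 𝓐.card ≤ 𝓑.card)
    (S R : Finset (Subgroup G)) (hS : S ⊆ 𝓐) (hR : ∀ M ∈ R, M ≠ ⊤) (hcard : R.card < S.card)
    (hcov : ∀ A ∈ S, ∀ g ∈ A, ∃ M ∈ R, g ∈ M) : False := by
  classical
  have hB : IsCover ((𝓐 \ S) ∪ R) := by
    refine ⟨fun A hA => ?_, fun g => ?_⟩
    · rcases Finset.mem_union.1 hA with h | h
      · exact hc.1 A (Finset.mem_sdiff.1 h).1
      · exact hR A h
    · obtain ⟨A, hA, hg⟩ := hc.2 g
      by_cases hAS : A ∈ S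
      · obtain ⟨M, hM, hgM⟩ := hcov A hAS g hg
        exact ⟨M, Finset.mem_union_right _ hM, hgM⟩
      · exact ⟨A, Finset.mem_union_left _ (Finset.mem_sdiff.2 ⟨hA, hAS⟩), hg⟩
  have h1 := hmin _ hB
  have h2 := Finset.card_union_le (𝓐 \ S) R
  have h3 := Finset.card_sdiff_add_card_eq_card hS
  omega

/-- No two members of a minimal cover lie in one proper subgroup. -/
theorem false_of_two_le {𝓐 : Finset (Subgroup G)} (hc : IsCover 𝓐)
    (hmin : ∀ 𝓑 : Finset (Subgroup G), IsCover 𝓑 → 𝓐.card ≤ 𝓑.card) {A A' : Subgroup G}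
    (hA : A ∈ 𝓐) (hA' : A' ∈ 𝓐) (hne : A ≠ A') {M : Subgroup G} (hM : M ≠ ⊤) (hAM : A ≤ M)
    (hA'M : A' ≤ M) : False := by
  classical
  refine false_of_replace hc hmin {A, A'} {M} ?_ (fun N hN => ?_) ?_ fun B hB g hg => ⟨M, by simp, ?_⟩
  · intro B hB
    rcases Finset.mem_insert.1 hB with rfl | hB
    · exact hA
    · rw [Finset.mem_singleton] at hB; subst hB; exact hA'
  · rw [Finset.mem_singleton] at hN; subst hN; exact hM
  · rw [Finset.card_singleton, Finset.card_pair hne]; norm_num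
  · rcases Finset.mem_insert.1 hB with rfl | hB
    · exact hAM hg
    · rw [Finset.mem_singleton] at hB; subst hB; exact hA'M hg

end Cover

/-- A subgroup whose image is nilpotent and whose kernel part is central is nilpotent. -/
theorem isNilpotent_comap {K L : Type*} [Group K] [Group L] (φ : K →* L) (A : Subgroup L)
    (hA : Group.IsNilpotent A) (hker : φ.ker ≤ Subgroup.center K) :
    Group.IsNilpotent (A.comap φ) := by
  refine Subgroup.isNilpotent_of_ker_le_center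
    (f := (φ.comp (A.comap φ).subtype).codRestrict A fun x => x.2) ?_
  intro x hx
  rw [Subgroup.mem_center_iff]
  intro y
  have : φ x = 1 := congrArg Subtype.val hx
  exact Subtype.ext (Subgroup.mem_center_iff.1 (hker this) y)

/-- In a finite nilpotent subgroup some `p`-subgroup is normalised and contains all `p`-elements. -/
theorem exists_pPart {K : Type*} [Group K] [Finite K] (p : ℕ) [Fact p.Prime] (A : Subgroup K)
    (hA : Group.IsNilpotent A) :
    ∃ P : Subgroup K, IsPGroup p P ∧ A ≤ Subgroup.normalizer (P : Set K) ∧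
      ∀ u ∈ A, (∃ k, u ^ p ^ k = 1) → u ∈ P := by
  obtain ⟨S⟩ := (inferInstance : Nonempty (Sylow p A))
  have hS : (S : Subgroup A).Normal :=
    Sylow.normal_of_normalizerCondition Group.normalizerCondition_of_isNilpotent S
  refine ⟨(S : Subgroup A).map A.subtype, S.2.map _, fun g hg => ?_, fun u hu ⟨k, hk⟩ => ?_⟩
  · rw [Subgroup.mem_normalizer_iff]
    intro x
    constructor
    · rintro ⟨y, hy, rfl⟩
      exact ⟨_, hS.conj_mem y hy ⟨g, hg⟩, rfl⟩
    · rintro ⟨y, hy, hyx⟩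
      refine ⟨_, hS.conj_mem y hy ⟨g, hg⟩⁻¹, ?_⟩
      simp only [Subgroup.subtype_apply] at hyx ⊢
      simp [hyx, mul_assoc]
  · have hpu : IsPGroup p (Subgroup.zpowers (⟨u, hu⟩ : A)) := by
      obtain ⟨i, _, hi⟩ := (Nat.dvd_prime_pow (Fact.out : p.Prime)).1
        (orderOf_dvd_of_pow_eq_one (n := p ^ k) (x := (⟨u, hu⟩ : A)) (Subtype.ext hk))
      exact IsPGroup.of_card (by rw [Nat.card_zpowers, hi])
    obtain ⟨T, hT⟩ := hpu.exists_le_sylow
    have : Subsingleton (Sylow p A) := (Sylow.unique_of_normal S hS).instSubsingleton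
    exact ⟨⟨u, hu⟩, Subsingleton.elim T S ▸ hT (Subgroup.mem_zpowers _), rfl⟩

section Linear

open Matrix

variable {F : Type*} [Field F] [Finite F] {p : ℕ} [Fact p.Prime] [CharP F p] {n : ℕ}

omit [Finite F] in
/-- A unipotent element has `p`-power order. -/
theorem exists_pow_eq_one (u : GL (Fin n) F) (hu : ((u : Matrix (Fin n) (Fin n) F) - 1) ^ n = 0) :
    ∃ k, u ^ p ^ k = 1 := by
  refine ⟨n, Units.ext ?_⟩
  rw [Units.val_pow_eq_pow_val, Units.val_one]
  rcases Nat.eq_zero_or_pos n with rfl | hn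
  · exact Subsingleton.elim _ _
  have : NeZero n := ⟨hn.ne'⟩
  have h := sub_pow_char_pow_of_commute (p := p) (n := n)
    (x := (u : Matrix (Fin n) (Fin n) F)) (y := 1) (Commute.one_right _)
  rw [one_pow] at h
  rw [← sub_eq_zero, ← h]
  exact pow_eq_zero_of_le (Nat.lt_pow_self (Fact.out : p.Prime).one_lt).le hu

theorem exists_fixed_vec (hn : 0 < n) {P : Subgroup (GL (Fin n) F)} (hP : IsPGroup p P) :
    ∃ v : Fin n → F, v ≠ 0 ∧ ∀ g ∈ P, (g : Matrix (Fin n) (Fin n) F) *ᵥ v = v := by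
  let act : MulAction P (Fin n → F) :=
    { smul := fun g v => ((g : GL (Fin n) F) : Matrix (Fin n) (Fin n) F) *ᵥ v
      one_smul := fun v => by change (1 : Matrix (Fin n) (Fin n) F) *ᵥ v = v; simp
      mul_smul := fun g h v => by
        change (((g : GL (Fin n) F) : Matrix (Fin n) (Fin n) F) * (h : GL (Fin n) F).val) *ᵥ v = _
        rw [← mulVec_mulVec]; rfl }
  have hdvd : p ∣ Nat.card (Fin n → F) := by
    have hF : p ∣ Nat.card F := by
      have := Fintype.ofFinite F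
      rw [Nat.card_eq_fintype_card]
      obtain ⟨k, _, hk⟩ := FiniteField.card F p
      exact hk ▸ dvd_pow_self p k.ne_zero
    rw [Nat.card_fun, Nat.card_fin]
    exact hF.trans (dvd_pow_self _ hn.ne')
  have h0 : (0 : Fin n → F) ∈ @MulAction.fixedPoints P (Fin n → F) _ act := fun g =>
    mulVec_zero _
  obtain ⟨v, hv, hne⟩ := hP.exists_fixed_point_of_prime_dvd_card_of_fixed_point (Fin n → F) hdvd h0
  exact ⟨v, hne.symm, fun g hg => hv ⟨g, hg⟩⟩

theorem exists_fixed_covec (hn : 0 < n) {P : Subgroup (GL (Fin n) F)} (hP : IsPGroup p P) :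
    ∃ v : Fin n → F, v ≠ 0 ∧ ∀ g ∈ P, v ᵥ* (g : Matrix (Fin n) (Fin n) F) = v := by
  let act : MulAction P (Fin n → F) :=
    { smul := fun g v => v ᵥ* (((g⁻¹ : P) : GL (Fin n) F) : Matrix (Fin n) (Fin n) F)
      one_smul := fun v => by change v ᵥ* ((((1 : P)⁻¹ : P) : GL (Fin n) F) : Matrix (Fin n) (Fin n) F) = v; simp
      mul_smul := fun g h v => by
        change v ᵥ* ((((g * h)⁻¹ : P) : GL (Fin n) F) : Matrix (Fin n) (Fin n) F) = _
        rw [_root_.mul_inv_rev, Subgroup.coe_mul, Units.val_mul, ← vecMul_vecMul]; rfl }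
  have hdvd : p ∣ Nat.card (Fin n → F) := by
    have hF : p ∣ Nat.card F := by
      have := Fintype.ofFinite F
      rw [Nat.card_eq_fintype_card]
      obtain ⟨k, _, hk⟩ := FiniteField.card F p
      exact hk ▸ dvd_pow_self p k.ne_zero
    rw [Nat.card_fun, Nat.card_fin]
    exact hF.trans (dvd_pow_self _ hn.ne')
  have h0 : (0 : Fin n → F) ∈ @MulAction.fixedPoints P (Fin n → F) _ act := fun g =>
    zero_vecMul _
  obtain ⟨v, hv, hne⟩ := hP.exists_fixed_point_of_prime_dvd_card_of_fixed_point (Fin n → F) hdvd h0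
  refine ⟨v, hne.symm, fun g hg => ?_⟩
  have h := hv (⟨g, hg⟩ : P)⁻¹
  change v ᵥ* ((((⟨g, hg⟩ : P)⁻¹⁻¹ : P) : GL (Fin n) F) : Matrix (Fin n) (Fin n) F) = v at h
  simpa using h

/-- The stabiliser of the line through `v`. -/
def lineStab (v : Fin n → F) : Subgroup (GL (Fin n) F) where
  carrier := {g | ∃ c : F, c ≠ 0 ∧ (g : Matrix (Fin n) (Fin n) F) *ᵥ v = c • v}
  one_mem' := ⟨1, one_ne_zero, by simp⟩
  mul_mem' := by
    rintro g h ⟨c, hc, hg⟩ ⟨d, hd, hh⟩
    refine ⟨c * d, mul_ne_zero hc hd, ?_⟩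
    rw [Units.val_mul, ← mulVec_mulVec, hh, mulVec_smul, hg, smul_smul, mul_comm]
  inv_mem' := by
    rintro g ⟨c, hc, hg⟩
    refine ⟨c⁻¹, inv_ne_zero hc, ?_⟩
    have := congrArg (fun w => ((g⁻¹ : GL (Fin n) F) : Matrix (Fin n) (Fin n) F) *ᵥ w) hg
    simp only [mulVec_mulVec, mulVec_smul] at this
    rw [← Units.val_mul, inv_mul_cancel, Units.val_one, one_mulVec] at this
    nth_rewrite 2 [this]
    rw [smul_smul, inv_mul_cancel₀ hc, one_smul]

omit [Finite F] [CharP F p] [Fact p.Prime] in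
theorem mem_lineStab_of_smul {v : Fin n → F} (hv : v ≠ 0) {g : GL (Fin n) F} {c : F}
    (h : (g : Matrix (Fin n) (Fin n) F) *ᵥ v = c • v) : g ∈ lineStab v := by
  refine ⟨c, ?_, h⟩
  rintro rfl
  rw [zero_smul] at h
  apply hv
  have := congrArg (fun w => ((g⁻¹ : GL (Fin n) F) : Matrix (Fin n) (Fin n) F) *ᵥ w) h
  simpa [mulVec_mulVec, ← Units.val_mul] using this

/-- A nilpotent subgroup containing a unipotent element fixing only the line of `v` fixes that line. -/
theorem le_lineStab (p : ℕ) [Fact p.Prime] [CharP F p] (hn : 0 < n) {A : Subgroup (GL (Fin n) F)} (hA : Group.IsNilpotent A)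
    {u : GL (Fin n) F} (huA : u ∈ A) (hu : ((u : Matrix (Fin n) (Fin n) F) - 1) ^ n = 0)
    {v : Fin n → F} (hfix : ∀ w, (u : Matrix (Fin n) (Fin n) F) *ᵥ w = w → ∃ c : F, w = c • v) :
    A ≤ lineStab v := by
  obtain ⟨P, hP, hnorm, hmem⟩ := exists_pPart p A hA
  have huP := hmem u huA (exists_pow_eq_one u hu)
  obtain ⟨w, hw0, hw⟩ := exists_fixed_vec hn hP
  obtain ⟨c, hc⟩ := hfix w (hw u huP)
  have hc0 : c ≠ 0 := fun h => hw0 (by simp [hc, h])
  intro g hg
  have hgu : g⁻¹ * u * g ∈ P := by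
    have := (Subgroup.mem_normalizer_iff.1 (inv_mem (hnorm hg)) u).1 huP
    simpa using this
  have hfixg : (u : Matrix (Fin n) (Fin n) F) *ᵥ ((g : Matrix (Fin n) (Fin n) F) *ᵥ w) =
      (g : Matrix (Fin n) (Fin n) F) *ᵥ w := by
    conv_rhs => rw [← hw _ hgu]
    rw [mulVec_mulVec, mulVec_mulVec, ← Units.val_mul, ← Units.val_mul]
    congr 2
    group
  obtain ⟨d, hd⟩ := hfix _ hfixg
  have hv : v ≠ 0 := fun h => hw0 (by simp [hc, h])
  refine mem_lineStab_of_smul hv (c := c⁻¹ * d) ?_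
  rw [hc, mulVec_smul] at hd
  rw [← smul_smul, ← hd, smul_smul, inv_mul_cancel₀ hc0, one_smul]

/-- Two unipotents of one nilpotent subgroup have a common non-zero fixed covector. -/
theorem exists_common_covec (p : ℕ) [Fact p.Prime] [CharP F p] (hn : 0 < n) {A : Subgroup (GL (Fin n) F)} (hA : Group.IsNilpotent A)
    {u u' : GL (Fin n) F} (huA : u ∈ A) (hu : ((u : Matrix (Fin n) (Fin n) F) - 1) ^ n = 0)
    (huA' : u' ∈ A) (hu' : ((u' : Matrix (Fin n) (Fin n) F) - 1) ^ n = 0) :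
    ∃ w : Fin n → F, w ≠ 0 ∧ w ᵥ* (u : Matrix (Fin n) (Fin n) F) = w ∧
      w ᵥ* (u' : Matrix (Fin n) (Fin n) F) = w := by
  obtain ⟨P, hP, -, hmem⟩ := exists_pPart p A hA
  obtain ⟨w, hw0, hw⟩ := exists_fixed_covec hn hP
  exact ⟨w, hw0, hw u (hmem u huA (exists_pow_eq_one u hu)),
    hw u' (hmem u' huA' (exists_pow_eq_one u' hu'))⟩

/-- Two unipotents of one nilpotent subgroup have a common non-zero fixed vector. -/
theorem exists_common_vec (p : ℕ) [Fact p.Prime] [CharP F p] (hn : 0 < n) {A : Subgroup (GL (Fin n) F)} (hA : Group.IsNilpotent A)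
    {u u' : GL (Fin n) F} (huA : u ∈ A) (hu : ((u : Matrix (Fin n) (Fin n) F) - 1) ^ n = 0)
    (huA' : u' ∈ A) (hu' : ((u' : Matrix (Fin n) (Fin n) F) - 1) ^ n = 0) :
    ∃ w : Fin n → F, w ≠ 0 ∧ (u : Matrix (Fin n) (Fin n) F) *ᵥ w = w ∧
      (u' : Matrix (Fin n) (Fin n) F) *ᵥ w = w := by
  obtain ⟨P, hP, -, hmem⟩ := exists_pPart p A hA
  obtain ⟨w, hw0, hw⟩ := exists_fixed_vec hn hP
  exact ⟨w, hw0, hw u (hmem u huA (exists_pow_eq_one u hu)),
    hw u' (hmem u' huA' (exists_pow_eq_one u' hu'))⟩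

end Linear

end Cfsg.Agent.Lib.NilpotentCover.Basic
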