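import Cfsg.Agent.Lib.NilpotentCover.Basic

/-!
# Groups between PSL and PGL: lifting nilpotent subgroups; no minimal nilpotent cover for n ≥ 3
-/

set_option autoImplicit false

namespace Cfsg.Agent.Lib.NilpotentCover.PGL

open Matrix
open Cfsg.Agent.Lib.NilpotentCover.Basic

section

variable {F : Type*} [Field F] [Fintype F] {n : ℕ}

/-- Preimage in `GL` of a subgroup of a group between `PSL` and `PGL`. -/
def lift (G : Subgroup (GL (Fin n) F ⧸ Subgroup.center (GL (Fin n) F))) (A : Subgroup ↥G) :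
    Subgroup (GL (Fin n) F) :=
  (A.map G.subtype).comap (QuotientGroup.mk' (Subgroup.center (GL (Fin n) F)))

theorem lift_nilpotent (G : Subgroup (GL (Fin n) F ⧸ Subgroup.center (GL (Fin n) F)))
    {A : Subgroup ↥G} (hA : Group.IsNilpotent ↥A) : Group.IsNilpotent ↥(lift G A) :=
  isNilpotent_comap _ _
    (Group.nilpotent_of_mulEquiv (A.equivMapOfInjective G.subtype G.subtype_injective))
    (by rw [QuotientGroup.ker_mk'])

theorem center_le_lineStab {u : GL (Fin n) F} {v : Fin n → F}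
    (huv : (u : Matrix (Fin n) (Fin n) F) *ᵥ v = v)
    (hfix : ∀ w, (u : Matrix (Fin n) (Fin n) F) *ᵥ w = w → ∃ c : F, w = c • v) (hv : v ≠ 0) :
    Subgroup.center (GL (Fin n) F) ≤ lineStab v := by
  intro z hz
  have hcomm : u * z = z * u := Subgroup.mem_center_iff.1 hz u
  obtain ⟨c, hc⟩ := hfix ((z : Matrix (Fin n) (Fin n) F) *ᵥ v) (by
    rw [mulVec_mulVec, ← Units.val_mul, hcomm, Units.val_mul, ← mulVec_mulVec, huv])
  exact mem_lineStab_of_smul hv hc

variable (G : Subgroup (GL (Fin n) F ⧸ Subgroup.center (GL (Fin n) F)))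
  (hG : ((Matrix.SpecialLinearGroup.toGL : Matrix.SpecialLinearGroup (Fin n) F →* GL (Fin n) F).range).map
      (QuotientGroup.mk' (Subgroup.center (GL (Fin n) F))) ≤ G)

/-- The element of `G` given by a matrix of determinant one. -/
def ofSL (s : Matrix.SpecialLinearGroup (Fin n) F) : ↥G :=
  ⟨QuotientGroup.mk' _ (Matrix.SpecialLinearGroup.toGL s),
    hG (Subgroup.mem_map_of_mem _ ⟨s, rfl⟩)⟩

theorem toGL_mem_lift {A : Subgroup ↥G} {s : Matrix.SpecialLinearGroup (Fin n) F}
    (h : ofSL G hG s ∈ A) : Matrix.SpecialLinearGroup.toGL s ∈ lift G A :=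
  ⟨_, h, rfl⟩

/-- The subgroup of `G` fixing the line of `v`. -/
def lineSub (v : Fin n → F) : Subgroup ↥G :=
  ((lineStab v).map (QuotientGroup.mk' (Subgroup.center (GL (Fin n) F)))).subgroupOf G

theorem le_of_lift_le {A : Subgroup ↥G} {H : Subgroup (GL (Fin n) F)} (h : lift G A ≤ H) :
    A ≤ (H.map (QuotientGroup.mk' (Subgroup.center (GL (Fin n) F)))).subgroupOf G := by
  intro x hx
  obtain ⟨g, hg⟩ := QuotientGroup.mk'_surjective _ (x : GL (Fin n) F ⧸ Subgroup.center (GL (Fin n) F))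
  exact ⟨g, h ⟨x, hx, hg.symm⟩, hg⟩

include hG in
theorem lineSub_ne_top {u : GL (Fin n) F} {v : Fin n → F}
    (huv : (u : Matrix (Fin n) (Fin n) F) *ᵥ v = v)
    (hfix : ∀ w, (u : Matrix (Fin n) (Fin n) F) *ᵥ w = w → ∃ c : F, w = c • v) (hv : v ≠ 0)
    {s : Matrix.SpecialLinearGroup (Fin n) F}
    (hs : ∀ c : F, (s : Matrix (Fin n) (Fin n) F) *ᵥ v ≠ c • v) : lineSub G v ≠ ⊤ := by
  intro h
  have hmem : ofSL G hG s ∈ lineSub G v := h ▸ Subgroup.mem_top _
  obtain ⟨g, hg, hgs⟩ := hmem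
  have : g⁻¹ * Matrix.SpecialLinearGroup.toGL s ∈ Subgroup.center (GL (Fin n) F) :=
    QuotientGroup.eq.1 hgs
  have hmem2 := (lineStab v).mul_mem hg (center_le_lineStab huv hfix hv this)
  rw [mul_inv_cancel_left] at hmem2
  obtain ⟨c, -, hc⟩ := hmem2
  exact hs c hc

end

section Jordan

variable {F : Type*} [Field F] {n : ℕ}

/-- The upper bidiagonal unipotent matrix. -/
def jordan (n : ℕ) : Matrix (Fin n) (Fin n) F :=
  Matrix.of fun i j => if j = i ∨ (j : ℕ) = i + 1 then 1 else 0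

theorem jordan_tri : (jordan n : Matrix (Fin n) (Fin n) F).IsUpperTriangular := by
  intro i j h
  have h' : (j : ℕ) < i := h
  simp only [jordan, Matrix.of_apply]
  rw [if_neg]
  rintro (h1 | h1)
  · rw [h1] at h'; exact lt_irrefl _ h'
  · omega

theorem jordan_det : (jordan n : Matrix (Fin n) (Fin n) F).det = 1 := by
  rw [det_of_isUpperTriangular jordan_tri]
  simp [jordan]

theorem jordan_unipotent : ((jordan n : Matrix (Fin n) (Fin n) F) - 1) ^ n = 0 := by
  have h := Matrix.aeval_self_charpoly (jordan n : Matrix (Fin n) (Fin n) F)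
  rw [Matrix.charpoly_of_isUpperTriangular _ jordan_tri] at h
  simpa [jordan] using h

theorem jordan_mulVec (v : Fin n → F) (i : Fin n) :
    ((jordan n : Matrix (Fin n) (Fin n) F) *ᵥ v) i =
      v i + if h : (i : ℕ) + 1 < n then v ⟨i + 1, h⟩ else 0 := by
  simp only [mulVec, dotProduct, jordan, of_apply, ite_mul, one_mul, zero_mul]
  by_cases h : (i : ℕ) + 1 < n
  · rw [dif_pos h, Finset.sum_ite, Finset.sum_const_zero, add_zero]
    have : (Finset.univ.filter fun j : Fin n => j = i ∨ (j : ℕ) = i + 1) = {i, ⟨i + 1, h⟩} := by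
      ext j; simp [Fin.ext_iff]
    rw [this, Finset.sum_pair (by simp [Fin.ext_iff])]
  · rw [dif_neg h, Finset.sum_ite, Finset.sum_const_zero, add_zero]
    have : (Finset.univ.filter fun j : Fin n => j = i ∨ (j : ℕ) = i + 1) = {i} := by
      ext j; simp [Fin.ext_iff]; omega
    rw [this, Finset.sum_singleton, add_zero]

theorem jordan_vecMul (v : Fin n → F) (j : Fin n) :
    (v ᵥ* (jordan n : Matrix (Fin n) (Fin n) F)) j =
      v j + if h : 0 < (j : ℕ) then v ⟨j - 1, by omega⟩ else 0 := by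
  simp only [vecMul, dotProduct, jordan, of_apply, mul_ite, mul_one, mul_zero]
  by_cases h : 0 < (j : ℕ)
  · rw [dif_pos h, Finset.sum_ite, Finset.sum_const_zero, add_zero]
    have : (Finset.univ.filter fun i : Fin n => j = i ∨ (j : ℕ) = i + 1) = {j, ⟨j - 1, by omega⟩} := by
      ext i; simp [Fin.ext_iff]; omega
    rw [this, Finset.sum_pair (by simp [Fin.ext_iff]; omega)]
  · rw [dif_neg h, Finset.sum_ite, Finset.sum_const_zero, add_zero]
    have : (Finset.univ.filter fun i : Fin n => j = i ∨ (j : ℕ) = i + 1) = {j} := by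
      ext i; simp [Fin.ext_iff]; omega
    rw [this, Finset.sum_singleton, add_zero]

theorem jordan_fixed {v : Fin n → F} (hn : 0 < n)
    (h : (jordan n : Matrix (Fin n) (Fin n) F) *ᵥ v = v) :
    v = v ⟨0, hn⟩ • Pi.single ⟨0, hn⟩ (1 : F) := by
  funext i
  rcases Nat.eq_zero_or_pos (i : ℕ) with hi | hi
  · have : i = ⟨0, hn⟩ := Fin.ext hi
    subst this; simp
  · have h1 := congrFun h ⟨i - 1, by omega⟩
    rw [jordan_mulVec, dif_pos (show (i : ℕ) - 1 + 1 < n by omega), add_eq_left] at h1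
    have e : (⟨(i : ℕ) - 1 + 1, by omega⟩ : Fin n) = i := Fin.ext (by simp; omega)
    rw [e] at h1
    rw [h1, Pi.smul_apply, Pi.single_eq_of_ne (by simp [Fin.ext_iff]; omega), smul_zero]

theorem jordan_cofixed {v : Fin n → F} (h : v ᵥ* (jordan n : Matrix (Fin n) (Fin n) F) = v)
    (i : Fin n) (hi : (i : ℕ) + 1 < n) : v i = 0 := by
  have h1 := congrFun h ⟨i + 1, hi⟩
  rw [jordan_vecMul, dif_pos (Nat.succ_pos _), add_eq_left] at h1
  simpa using h1

end Jordan

theorem false_of_big {F : Type*} [Field F] [Fintype F] {n : ℕ} (hn : 3 ≤ n)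
    (G : Subgroup (GL (Fin n) F ⧸ Subgroup.center (GL (Fin n) F)))
    (hG : ((Matrix.SpecialLinearGroup.toGL : Matrix.SpecialLinearGroup (Fin n) F →* GL (Fin n) F).range).map
      (QuotientGroup.mk' (Subgroup.center (GL (Fin n) F))) ≤ G)
    (𝓐 : Finset (Subgroup ↥G)) (hc : IsCover 𝓐)
    (hmin : ∀ 𝓑 : Finset (Subgroup ↥G), IsCover 𝓑 → 𝓐.card ≤ 𝓑.card)
    (hnil : ∀ A ∈ 𝓐, Group.IsNilpotent ↥A) : False := by
  classical
  obtain ⟨p, hp⟩ := CharP.exists F
  have := Fact.mk (CharP.char_is_prime F p)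
  have hn0 : 0 < n := by omega
  set i0 : Fin n := ⟨0, hn0⟩
  set i1 : Fin n := ⟨1, by omega⟩
  set k2 : Fin n := ⟨n - 2, by omega⟩
  set k1 : Fin n := ⟨n - 1, by omega⟩
  set σ : Equiv.Perm (Fin n) := Equiv.swap k2 k1 with hσ
  have hσ0 : σ i0 = i0 := Equiv.swap_apply_of_ne_of_ne (by simp [i0, k2, Fin.ext_iff]; omega)
    (by simp [i0, k1, Fin.ext_iff]; omega)
  let s : Matrix.SpecialLinearGroup (Fin n) F := ⟨jordan n, jordan_det⟩
  let s' : Matrix.SpecialLinearGroup (Fin n) F :=
    ⟨(jordan n).submatrix σ σ, by rw [det_submatrix_equiv_self, jordan_det]⟩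
  set v : Fin n → F := Pi.single i0 1 with hv
  have hv0 : v ≠ 0 := fun h => one_ne_zero (α := F) (by simpa [hv] using congrFun h i0)
  have hfix : ∀ w, (jordan n : Matrix (Fin n) (Fin n) F) *ᵥ w = w → ∃ c : F, w = c • v :=
    fun w hw => ⟨w i0, jordan_fixed hn0 hw⟩
  have hfix' : ∀ w, ((jordan n : Matrix (Fin n) (Fin n) F).submatrix σ σ) *ᵥ w = w →
      ∃ c : F, w = c • v := by
    intro w hw
    rw [submatrix_mulVec_equiv] at hw
    obtain ⟨c, hc⟩ := hfix (w ∘ σ.symm) (by
      funext j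
      simpa using congrFun hw (σ.symm j))
    refine ⟨c, funext fun j => ?_⟩
    have h := congrFun hc (σ j)
    simp only [Function.comp_apply, Equiv.symm_apply_apply] at h
    rw [h, Pi.smul_apply, Pi.smul_apply, hv]
    congr 1
    by_cases hj : j = i0
    · subst hj; rw [hσ0]
    · rw [Pi.single_eq_of_ne hj, Pi.single_eq_of_ne (fun h => hj (σ.injective (h.trans hσ0.symm)))]
  have huni' : (((jordan n : Matrix (Fin n) (Fin n) F).submatrix σ σ) - 1) ^ n = 0 := by
    have h1 : (reindexAlgEquiv F F σ.symm) (jordan n) =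
        (jordan n : Matrix (Fin n) (Fin n) F).submatrix σ σ := by
      simp [coe_reindexAlgEquiv]
    rw [← h1, ← map_one (reindexAlgEquiv F F σ.symm), ← map_sub, ← map_pow, jordan_unipotent, map_zero]
  obtain ⟨A, hA, hsA⟩ := hc.2 (ofSL G hG s)
  obtain ⟨A', hA', hsA'⟩ := hc.2 (ofSL G hG s')
  have hle : A ≤ lineSub G v := le_of_lift_le G
    (le_lineStab p hn0 (lift_nilpotent G (hnil A hA)) (toGL_mem_lift G hG hsA) jordan_unipotent hfix)
  have hle' : A' ≤ lineSub G v := le_of_lift_le G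
    (le_lineStab p hn0 (lift_nilpotent G (hnil A' hA')) (toGL_mem_lift G hG hsA') huni' hfix')
  have hne : A ≠ A' := by
    intro h
    subst h
    obtain ⟨w, hw0, hw, hw'⟩ := exists_common_covec p hn0 (lift_nilpotent G (hnil A hA))
      (toGL_mem_lift G hG hsA) jordan_unipotent (toGL_mem_lift G hG hsA') huni'
    apply hw0
    change w ᵥ* (jordan n : Matrix (Fin n) (Fin n) F) = w at hw
    change w ᵥ* (jordan n : Matrix (Fin n) (Fin n) F).submatrix σ σ = w at hw'
    rw [submatrix_vecMul_equiv] at hw'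
    have h2 : (w ∘ σ.symm) ᵥ* (jordan n : Matrix (Fin n) (Fin n) F) = w ∘ σ.symm := by
      funext j
      simpa using congrFun hw' (σ.symm j)
    funext i
    rcases lt_or_ge ((i : ℕ) + 1) n with hi | hi
    · exact jordan_cofixed hw i hi
    · have he : i = k1 := Fin.ext (by simp [k1]; omega)
      have h3 := jordan_cofixed h2 k2 (by simp [k2]; omega)
      rw [he]
      simpa [hσ] using h3
  -- a matrix of determinant one moving the line
  have hne01 : i1 ≠ i0 := by simp [i1, i0, Fin.ext_iff]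
  let r : Matrix.SpecialLinearGroup (Fin n) F :=
    ⟨transvection i1 i0 1, det_transvection_of_ne _ _ hne01 _⟩
  have hr : ∀ c : F, (r : Matrix (Fin n) (Fin n) F) *ᵥ v ≠ c • v := by
    intro c h
    have h1 := congrFun h i1
    simp [r, hv, mulVec_single, transvection, hne01, one_apply] at h1
  exact false_of_two_le hc hmin hA hA' hne
    (lineSub_ne_top G hG (u := Matrix.SpecialLinearGroup.toGL s)
      (by
        change (jordan n : Matrix (Fin n) (Fin n) F) *ᵥ v = v
        funext i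
        rw [jordan_mulVec, add_eq_left]
        split
        · rw [hv, Pi.single_eq_of_ne (by simp [i0, Fin.ext_iff])]
        · rfl) hfix hv0 hr) hle hle'

end Cfsg.Agent.Lib.NilpotentCover.PGL
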