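import Cfsg.Agent.Lib.NilpotentCover.PGL
import Cfsg.Agent.Lib.CNGroup.Basic

/-!
# Groups between PSL₂ and PGL₂ have no minimal nilpotent cover (q ≥ 4)
-/

set_option autoImplicit false

namespace Cfsg.Agent.Lib.NilpotentCover.PGL2

open Matrix
open Cfsg.Agent.Lib.NilpotentCover.Basic Cfsg.Agent.Lib.NilpotentCover.PGL

variable {F : Type*} [Field F]

/-- The transvection fixing `v`. -/
def trans2 (v : Fin 2 → F) : Matrix.SpecialLinearGroup (Fin 2) F :=
  ⟨!![1 + v 0 * v 1, -(v 0 * v 0); v 1 * v 1, 1 - v 0 * v 1], by rw [det_fin_two_of]; ring⟩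

theorem trans2_unipotent (v : Fin 2 → F) :
    ((trans2 v : Matrix (Fin 2) (Fin 2) F) - 1) ^ 2 = 0 := by
  rw [sq]
  ext i j
  fin_cases i <;> fin_cases j <;>
    simp [trans2, mul_apply, Fin.sum_univ_two] <;> ring

theorem trans2_fix (v : Fin 2 → F) : (trans2 v : Matrix (Fin 2) (Fin 2) F) *ᵥ v = v := by
  ext i
  fin_cases i <;> simp [trans2, mulVec, dotProduct, Fin.sum_univ_two] <;> ring

theorem trans2_fixed {v : Fin 2 → F} (hv : v ≠ 0) {w : Fin 2 → F}
    (h : (trans2 v : Matrix (Fin 2) (Fin 2) F) *ᵥ w = w) : ∃ c : F, w = c • v := by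
  have h0 := congrFun h 0
  have h1 := congrFun h 1
  simp [trans2, mulVec, dotProduct, Fin.sum_univ_two] at h0 h1
  by_cases ha : v 0 = 0
  · have hb : v 1 ≠ 0 := fun hb => hv (funext fun i => by fin_cases i <;> simp [ha, hb])
    have : v 1 * v 1 * w 0 = 0 := by rw [ha] at h1; linear_combination h1
    refine ⟨w 1 / v 1, funext fun i => ?_⟩
    fin_cases i
    · simpa [ha, hb] using this
    · simp [div_mul_cancel₀ _ hb]
  · have : v 0 * (v 1 * w 0 - v 0 * w 1) = 0 := by linear_combination h0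
    have h2 := (mul_eq_zero.1 this).resolve_left ha
    refine ⟨w 0 / v 0, funext fun i => ?_⟩
    fin_cases i
    · simp [div_mul_cancel₀ _ ha]
    · simp only [Fin.mk_one, Pi.smul_apply, smul_eq_mul]
      field_simp
      linear_combination -h2

/-- Representatives of the lines of `F²`. -/
def lineVec : Option F → Fin 2 → F
  | none => ![1, 0]
  | some c => ![c, 1]

theorem lineVec_ne_zero (o : Option F) : lineVec o ≠ 0 := by
  cases o
  · intro h; simpa [lineVec] using congrFun h 0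
  · intro h; simpa [lineVec] using congrFun h 1

theorem exists_lineVec {v : Fin 2 → F} (hv : v ≠ 0) :
    ∃ (o : Option F) (c : F), c ≠ 0 ∧ v = c • lineVec o := by
  by_cases hb : v 1 = 0
  · have ha : v 0 ≠ 0 := fun ha => hv (funext fun i => by fin_cases i <;> simp [ha, hb])
    exact ⟨none, v 0, ha, funext fun i => by fin_cases i <;> simp [lineVec, hb]⟩
  · refine ⟨some (v 0 / v 1), v 1, hb, funext fun i => ?_⟩
    fin_cases i
    · simp [lineVec]; field_simp
    · simp [lineVec]

theorem lineVec_inj {o o' : Option F} {c : F} (h : lineVec o = c • lineVec o') : o = o' := by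
  have h0 := congrFun h 0
  have h1 := congrFun h 1
  cases o <;> cases o' <;> simp [lineVec] at h0 h1 <;> subst_vars <;> simp_all

theorem exists_moves {v : Fin 2 → F} (hv : v ≠ 0) :
    ∃ s : Matrix.SpecialLinearGroup (Fin 2) F,
      ∀ c : F, (s : Matrix (Fin 2) (Fin 2) F) *ᵥ v ≠ c • v := by
  by_cases hb : v 1 = 0
  · refine ⟨⟨!![1, 0; 1, 1], by rw [det_fin_two_of]; ring⟩, fun c h => hv (funext fun i => ?_)⟩
    have h1 := congrFun h 1
    simp [mulVec, dotProduct, Fin.sum_univ_two, hb] at h1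
    fin_cases i <;> simp [h1, hb]
  · refine ⟨⟨!![1, 1; 0, 1], by rw [det_fin_two_of]; ring⟩, fun c h => ?_⟩
    have h0 := congrFun h 0
    have h1 := congrFun h 1
    simp [mulVec, dotProduct, Fin.sum_univ_two] at h0 h1
    have hc : c = 1 := mul_right_cancel₀ hb (h1.symm.trans (one_mul _).symm)
    subst hc
    exact hb (by linear_combination h0)

theorem eigen_of_root {g : Matrix (Fin 2) (Fin 2) F} (hdet : g.det = 1) {l : F}
    (hl : l ^ 2 - (g 0 0 + g 1 1) * l + 1 = 0) :
    ∃ v : Fin 2 → F, v ≠ 0 ∧ g *ᵥ v = l • v := by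
  have h0 : (g - l • 1).det = 0 := by
    rw [det_fin_two] at hdet ⊢
    simp
    linear_combination hl + hdet
  obtain ⟨v, hv, hgv⟩ := exists_mulVec_eq_zero_iff.2 h0
  refine ⟨v, hv, ?_⟩
  rw [sub_mulVec, smul_mulVec, one_mulVec, sub_eq_zero] at hgv
  exact hgv

variable [Fintype F]

theorem units_orderOf {a : Fˣ} (hgen : ∀ x : Fˣ, x ∈ Subgroup.zpowers a) :
    orderOf a = Fintype.card F - 1 := by
  classical
  rw [orderOf_eq_card_of_forall_mem_zpowers hgen, Nat.card_eq_fintype_card, Fintype.card_units]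

theorem card_eq_five (hq : 4 ≤ Fintype.card F) {a : Fˣ} (hgen : ∀ x : Fˣ, x ∈ Subgroup.zpowers a)
    (h4 : (a : F) ^ 4 = 1) : Fintype.card F = 5 := by
  have hd : Fintype.card F - 1 ∣ 4 :=
    units_orderOf hgen ▸ orderOf_dvd_of_pow_eq_one (Units.ext (by simpa using h4))
  have hle := Nat.le_of_dvd (by norm_num) hd
  have hle' : Fintype.card F ≤ 5 := by omega
  interval_cases hc : Fintype.card F <;> omega

theorem ne_inv_self (hq : 4 ≤ Fintype.card F) {a : Fˣ} (hgen : ∀ x : Fˣ, x ∈ Subgroup.zpowers a) :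
    (a : F) ≠ (a : F)⁻¹ := by
  intro h
  have h1 : a ^ 2 = 1 := Units.ext (by
    have : (a : F) * a = 1 := by nth_rewrite 2 [h]; exact mul_inv_cancel₀ a.ne_zero
    simpa [sq] using this)
  have hle := Nat.le_of_dvd (by norm_num) (orderOf_dvd_of_pow_eq_one h1)
  rw [units_orderOf hgen] at hle
  omega

omit [Fintype F] in
theorem torus_pow (a : F) (k : ℕ) :
    (!![a, 0; 0, a⁻¹] : Matrix (Fin 2) (Fin 2) F) ^ k = !![a ^ k, 0; 0, (a⁻¹) ^ k] := by
  induction k with
  | zero => simp [one_fin_two]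
  | succ k ih =>
    rw [pow_succ, ih]
    ext i j
    fin_cases i <;> fin_cases j <;> simp [mul_apply, Fin.sum_univ_two, pow_succ]

theorem torus_pow_eq_one {t : GL (Fin 2) F} {a : F}
    (ht : (t : Matrix (Fin 2) (Fin 2) F) = !![a, 0; 0, a⁻¹]) {k : ℕ} (h : a ^ k = 1) : t ^ k = 1 := by
  refine Units.ext ?_
  rw [Units.val_pow_eq_pow_val, ht, torus_pow, inv_pow, h, inv_one, Units.val_one, one_fin_two]

/-- The predicate "diagonal or antidiagonal". -/
def IsMono (X : Matrix (Fin 2) (Fin 2) F) : Prop :=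
  (X 0 1 = 0 ∧ X 1 0 = 0) ∨ (X 0 0 = 0 ∧ X 1 1 = 0)

omit [Fintype F] in
theorem isMono_mul {X Y : Matrix (Fin 2) (Fin 2) F} (hX : IsMono X) (hY : IsMono Y) :
    IsMono (X * Y) := by
  rcases hX with ⟨a, b⟩ | ⟨a, b⟩ <;> rcases hY with ⟨c, d⟩ | ⟨c, d⟩
  · exact Or.inl (by simp [mul_apply, Fin.sum_univ_two, a, b, c, d])
  · exact Or.inr (by simp [mul_apply, Fin.sum_univ_two, a, b, c, d])
  · exact Or.inr (by simp [mul_apply, Fin.sum_univ_two, a, b, c, d])
  · exact Or.inl (by simp [mul_apply, Fin.sum_univ_two, a, b, c, d])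

/-- Diagonal or antidiagonal elements. -/
def Mono (F : Type*) [Field F] [Fintype F] : Subgroup (GL (Fin 2) F) where
  carrier := {g | IsMono (g : Matrix (Fin 2) (Fin 2) F)}
  one_mem' := Or.inl ⟨rfl, rfl⟩
  mul_mem' := fun hg hh => isMono_mul hg hh
  inv_mem' := by
    intro g hg
    have key : ∀ k : ℕ, IsMono ((g ^ k : GL (Fin 2) F) : Matrix (Fin 2) (Fin 2) F) := by
      intro k
      induction k with
      | zero => exact Or.inl ⟨by simp, by simp⟩
      | succ k ih => rw [pow_succ, Units.val_mul]; exact isMono_mul ih hg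
    have he : g ^ (orderOf g - 1) = g⁻¹ := by
      apply eq_inv_of_mul_eq_one_left
      rw [← pow_succ, Nat.sub_add_cancel (orderOf_pos g), pow_orderOf_eq_one]
    have hk := key (orderOf g - 1)
    rwa [he] at hk

theorem det_isSquare (p : ℕ) [Fact p.Prime] [CharP F p] {A : Subgroup (GL (Fin 2) F)}
    (hA : Group.IsNilpotent ↥A) (b : Bool) {u : GL (Fin 2) F} (huA : u ∈ A)
    (hu : (u : Matrix (Fin 2) (Fin 2) F) = if b then !![1, -1; 0, 1] else !![1, 0; 1, 1])
    {g : GL (Fin 2) F} (hg : g ∈ A) : IsSquare ((g : Matrix (Fin 2) (Fin 2) F).det) := by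
  obtain ⟨k, hk⟩ : ∃ k, u ^ p ^ k = 1 := exists_pow_eq_one u (by
    rw [hu, sq]
    ext i j
    cases b <;> fin_cases i <;> fin_cases j <;> simp [mul_apply, Fin.sum_univ_two])
  have hp : p.Prime := Fact.out
  obtain ⟨a, m, hm, hord⟩ : ∃ a m : ℕ, ¬ p ∣ m ∧ orderOf g = p ^ a * m :=
    ⟨_, _, Nat.not_dvd_ordCompl hp (orderOf_pos g).ne', (Nat.ordProj_mul_ordCompl_eq_self _ p).symm⟩
  obtain ⟨i, j, hij⟩ : ∃ i j : ℤ, i * ((p ^ a : ℕ) : ℤ) + j * (m : ℤ) = 1 :=
    Nat.isCoprime_iff_coprime.2 (Nat.Coprime.pow_left a ((hp.coprime_iff_not_dvd).2 hm))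
  set h := g ^ (i * ((p ^ a : ℕ) : ℤ)) with hhdef
  set x := g ^ (j * (m : ℤ)) with hxdef
  have hgx : g = h * x := by rw [← _root_.zpow_add, hij, zpow_one]
  have hxp : x ^ p ^ a = 1 := by
    rw [hxdef, ← zpow_natCast, ← _root_.zpow_mul,
      show j * (m : ℤ) * ((p ^ a : ℕ) : ℤ) = (orderOf g : ℤ) * j by rw [hord]; push_cast; ring,
      _root_.zpow_mul, zpow_natCast, pow_orderOf_eq_one, _root_.one_zpow]
  have hhm : h ^ m = 1 := by
    rw [hhdef, ← zpow_natCast, ← _root_.zpow_mul,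
      show i * ((p ^ a : ℕ) : ℤ) * (m : ℤ) = (orderOf g : ℤ) * i by rw [hord]; push_cast; ring,
      _root_.zpow_mul, zpow_natCast, pow_orderOf_eq_one, _root_.one_zpow]
  have hcomm : h * u = u * h := Cfsg.Agent.Lib.CNGroup.Basic.commute_of_mem_nilpotent hA
    (zpow_mem hg _) huA (((((hp.coprime_iff_not_dvd).2 hm).pow_left k).symm.coprime_dvd_left
      (orderOf_dvd_of_pow_eq_one hhm)).coprime_dvd_right (orderOf_dvd_of_pow_eq_one hk))
  have hdx : (x : Matrix (Fin 2) (Fin 2) F).det = 1 := by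
    have h1 : ((x : Matrix (Fin 2) (Fin 2) F).det - 1) ^ p ^ a = 0 := by
      rw [sub_pow_char_pow, one_pow, ← det_pow, ← Units.val_pow_eq_pow_val, hxp, Units.val_one,
        det_one, sub_self]
    exact sub_eq_zero.1 (eq_zero_of_pow_eq_zero h1)
  rw [hgx, Units.val_mul, det_mul, hdx, mul_one]
  have hmat := congrArg Units.val hcomm
  rw [Units.val_mul, Units.val_mul, hu] at hmat
  set M : Matrix (Fin 2) (Fin 2) F := (h : Matrix (Fin 2) (Fin 2) F)
  have e00 := congrFun (congrFun hmat 0) 0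
  have e01 := congrFun (congrFun hmat 0) 1
  have e10 := congrFun (congrFun hmat 1) 0
  cases b <;> simp [mul_apply, Fin.sum_univ_two] at e00 e01 e10
  · have h01 : M 0 1 = 0 := e00
    have h11 : M 0 0 = M 1 1 := by linear_combination -e10
    exact ⟨M 0 0, by rw [det_fin_two, h01, ← h11]; ring⟩
  · have h10 : M 1 0 = 0 := e00
    have h11 : M 0 0 = M 1 1 := by linear_combination -e01
    exact ⟨M 0 0, by rw [det_fin_two, h10, ← h11]; ring⟩

theorem commute_torus_diag (hq : 4 ≤ Fintype.card F) {a : Fˣ}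
    (hgen : ∀ x : Fˣ, x ∈ Subgroup.zpowers a) {t h : GL (Fin 2) F}
    (ht : (t : Matrix (Fin 2) (Fin 2) F) = !![(a : F), 0; 0, (a : F)⁻¹]) (hh : h * t = t * h) :
    (h : Matrix (Fin 2) (Fin 2) F) 0 1 = 0 ∧ (h : Matrix (Fin 2) (Fin 2) F) 1 0 = 0 := by
  have ha2 := ne_inv_self hq hgen
  have hmat := congrArg Units.val hh
  rw [Units.val_mul, Units.val_mul, ht] at hmat
  have e01 := congrFun (congrFun hmat 0) 1
  have e10 := congrFun (congrFun hmat 1) 0
  simp [mul_apply, Fin.sum_univ_two] at e01 e10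
  constructor
  · have : ((a : F)⁻¹ - a) * (h : Matrix (Fin 2) (Fin 2) F) 0 1 = 0 := by linear_combination e01
    exact (mul_eq_zero.1 this).resolve_left (sub_ne_zero.2 ha2.symm)
  · have : ((a : F) - (a : F)⁻¹) * (h : Matrix (Fin 2) (Fin 2) F) 1 0 = 0 := by linear_combination e10
    exact (mul_eq_zero.1 this).resolve_left (sub_ne_zero.2 ha2)

/-- In a nilpotent subgroup of SL₂ through a torus generator, antidiagonal elements force `-1` square. -/
theorem isSquare_neg_one_of_antidiag (hq : 4 ≤ Fintype.card F) {a : Fˣ}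
    (hgen : ∀ x : Fˣ, x ∈ Subgroup.zpowers a) {A : Subgroup (GL (Fin 2) F)}
    (hA : Group.IsNilpotent ↥A) {t g : GL (Fin 2) F} (htA : t ∈ A) (hg : g ∈ A)
    (ht : (t : Matrix (Fin 2) (Fin 2) F) = !![(a : F), 0; 0, (a : F)⁻¹])
    (hdet : (g : Matrix (Fin 2) (Fin 2) F).det = 1)
    (h00 : (g : Matrix (Fin 2) (Fin 2) F) 0 0 = 0) (h11 : (g : Matrix (Fin 2) (Fin 2) F) 1 1 = 0) :
    IsSquare (-1 : F) := by
  by_contra hsq
  have h43 : Fintype.card F % 4 = 3 := by
    by_contra h; exact hsq (FiniteField.isSquare_neg_one_iff.2 h)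
  set M : Matrix (Fin 2) (Fin 2) F := (g : Matrix (Fin 2) (Fin 2) F) with hM
  rw [det_fin_two, h00, h11] at hdet
  have hbc : M 0 1 * M 1 0 = -1 := by linear_combination -hdet
  have hg2 : ((g * g : GL (Fin 2) F) : Matrix (Fin 2) (Fin 2) F) = !![-1, 0; 0, -1] := by
    rw [Units.val_mul, ← hM]
    ext i j
    fin_cases i <;> fin_cases j <;> simp [mul_apply, Fin.sum_univ_two, h00, h11]
    · linear_combination hbc
    · linear_combination hbc
  have hg4 : g ^ 4 = 1 := Units.ext (by
    rw [show g ^ 4 = (g * g) * (g * g) by simp [pow_succ, mul_assoc], Units.val_mul, hg2]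
    ext i j
    fin_cases i <;> fin_cases j <;> simp [mul_apply, Fin.sum_univ_two])
  obtain ⟨m, hm, hm2⟩ : ∃ m, Fintype.card F - 1 = 2 * m ∧ ¬ 2 ∣ m :=
    ⟨(Fintype.card F - 1) / 2, by omega, by omega⟩
  have hapow : (a : F) ^ (2 * m) = 1 := by
    rw [← hm, ← units_orderOf hgen, ← Units.val_pow_eq_pow_val, pow_orderOf_eq_one, Units.val_one]
  have htm : (t ^ 2) ^ m = 1 := by
    rw [← pow_mul]; exact torus_pow_eq_one ht hapow
  have hcomm := Cfsg.Agent.Lib.CNGroup.Basic.commute_of_mem_nilpotent hA hg (pow_mem htA 2)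
    (((((Nat.prime_two.coprime_iff_not_dvd).2 hm2).pow_left 2).coprime_dvd_left
      (orderOf_dvd_of_pow_eq_one hg4)).coprime_dvd_right (orderOf_dvd_of_pow_eq_one htm))
  have hmat := congrArg Units.val hcomm
  rw [Units.val_mul, Units.val_mul, Units.val_pow_eq_pow_val, ht, torus_pow, ← hM] at hmat
  have e01 := congrFun (congrFun hmat 0) 1
  simp [mul_apply, Fin.sum_univ_two, h00] at e01
  have hM01 : M 0 1 ≠ 0 := fun h => by
    rw [h, zero_mul] at hbc
    exact one_ne_zero (neg_eq_zero.1 hbc.symm)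
  have h4 : (a : F) ^ 4 = 1 := by
    have e : M 0 1 * ((a : F) ^ 4 - 1) = 0 := by
      field_simp at e01
      linear_combination -(M 0 1) * e01
    exact sub_eq_zero.1 ((mul_eq_zero.1 e).resolve_left hM01)
  have := card_eq_five hq hgen h4
  omega

/-- For `q = 5`: every element of a nilpotent subgroup of SL₂ through the torus has an eigenvector. -/
theorem exists_eigen_five (h5 : Fintype.card F = 5) {a : Fˣ}
    (hgen : ∀ x : Fˣ, x ∈ Subgroup.zpowers a) {A : Subgroup (GL (Fin 2) F)}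
    (hA : Group.IsNilpotent ↥A) {t g : GL (Fin 2) F} (htA : t ∈ A)
    (ht : (t : Matrix (Fin 2) (Fin 2) F) = !![(a : F), 0; 0, (a : F)⁻¹]) (hg : g ∈ A)
    (hdetg : (g : Matrix (Fin 2) (Fin 2) F).det = 1) :
    ∃ (v : Fin 2 → F) (l : F), v ≠ 0 ∧ (g : Matrix (Fin 2) (Fin 2) F) *ᵥ v = l • v := by
  set M : Matrix (Fin 2) (Fin 2) F := (g : Matrix (Fin 2) (Fin 2) F) with hM
  set τ := M 0 0 + M 1 1 with hτ
  have h50 : (5 : F) = 0 := by
    have h := FiniteField.cast_card_eq_zero F
    rw [h5] at h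
    exact_mod_cast h
  have h2 : (2 : F) ≠ 0 := by
    intro h
    exact one_ne_zero (α := F) (by linear_combination h50 - 2 * h)
  have hτ5 : τ ^ 5 = τ := by have := FiniteField.pow_card τ; rwa [h5] at this
  have h14 : τ * ((τ ^ 2 - 1) * (τ ^ 2 + 1)) = 0 := by linear_combination hτ5
  have hroot : ∀ r : F, r ^ 2 = τ ^ 2 - 4 →
      ∃ (v : Fin 2 → F) (l : F), v ≠ 0 ∧ M *ᵥ v = l • v := by
    intro r hr
    obtain ⟨v, hv, hgv⟩ := eigen_of_root hdetg (l := (τ + r) / 2) (by
      rw [← hτ]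
      field_simp
      linear_combination hr)
    exact ⟨v, _, hv, hgv⟩
  rcases mul_eq_zero.1 h14 with h0 | h0
  · exact hroot 1 (by rw [h0]; linear_combination h50)
  rcases mul_eq_zero.1 h0 with h1 | h1
  swap
  · exact hroot 0 (by linear_combination -h1 + h50)
  -- trace ±1: `g²` has odd order
  rw [det_fin_two] at hdetg
  have hM2 : M * M = τ • M - 1 := by
    ext i j
    fin_cases i <;> fin_cases j <;> simp [mul_apply, Fin.sum_univ_two, hτ]
    · linear_combination -hdetg
    · ring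
    · ring
    · linear_combination -hdetg
  have hM3 : M * M * M = -τ • (1 : Matrix (Fin 2) (Fin 2) F) := by
    rw [hM2, sub_mul, one_mul, smul_mul_assoc, hM2, smul_sub, smul_smul,
      show τ * τ = 1 by linear_combination h1, one_smul, neg_smul]
    abel
  have hg6 : (g ^ 2) ^ 3 = 1 := Units.ext (by
    rw [show (g ^ 2) ^ 3 = (g * g * g) * (g * g * g) by simp [pow_succ, mul_assoc], Units.val_mul, Units.val_mul,
      Units.val_mul, ← hM, hM3, smul_mul_smul_comm, one_mul, neg_mul_neg,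
      show τ * τ = 1 by linear_combination h1, one_smul, Units.val_one])
  have ha4 : (a : F) ^ 4 = 1 := by
    have := FiniteField.pow_card_sub_one_eq_one (a : F) a.ne_zero
    rwa [h5] at this
  have hcomm := Cfsg.Agent.Lib.CNGroup.Basic.commute_of_mem_nilpotent hA (pow_mem hg 2) htA
    (((show Nat.Coprime 3 4 by norm_num).coprime_dvd_left
      (orderOf_dvd_of_pow_eq_one hg6)).coprime_dvd_right
        (orderOf_dvd_of_pow_eq_one (torus_pow_eq_one ht ha4)))
  obtain ⟨-, e10⟩ := commute_torus_diag (by omega) hgen ht hcomm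
  rw [sq, Units.val_mul, ← hM, hM2] at e10
  simp at e10
  have hτ0 : τ ≠ 0 := fun h => by rw [h] at h1; simp at h1
  have h10 : M 1 0 = 0 := e10.resolve_left hτ0
  refine ⟨![1, 0], M 0 0, fun h => by simpa using congrFun h 0, funext fun i => ?_⟩
  fin_cases i <;> simp [mulVec, dotProduct, Fin.sum_univ_two, h10]

/-- Every element of a nilpotent subgroup of SL₂ through a torus generator has an eigenvector. -/
theorem exists_eigen (hq : 4 ≤ Fintype.card F) {a : Fˣ}
    (hgen : ∀ x : Fˣ, x ∈ Subgroup.zpowers a) {A : Subgroup (GL (Fin 2) F)}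
    (hA : Group.IsNilpotent ↥A) (hdetA : ∀ g ∈ A, (g : Matrix (Fin 2) (Fin 2) F).det = 1)
    {t : GL (Fin 2) F} (htA : t ∈ A)
    (ht : (t : Matrix (Fin 2) (Fin 2) F) = !![(a : F), 0; 0, (a : F)⁻¹]) {g : GL (Fin 2) F}
    (hg : g ∈ A) :
    ∃ (v : Fin 2 → F) (l : F), v ≠ 0 ∧ (g : Matrix (Fin 2) (Fin 2) F) *ᵥ v = l • v := by
  by_cases h5 : Fintype.card F = 5
  · exact exists_eigen_five h5 hgen hA htA ht hg (hdetA g hg)
  have ha2 := ne_inv_self hq hgen
  have htmono : t ∈ Mono F := Or.inl (by simp [ht])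
  by_cases hmono : g ∈ Mono F
  · rcases hmono with ⟨-, h10⟩ | ⟨h00, h11⟩
    · refine ⟨![1, 0], (g : Matrix (Fin 2) (Fin 2) F) 0 0, fun h => by simpa using congrFun h 0,
        funext fun i => ?_⟩
      fin_cases i <;> simp [mulVec, dotProduct, Fin.sum_univ_two, h10]
    obtain ⟨r, hr⟩ := isSquare_neg_one_of_antidiag hq hgen hA htA hg ht (hdetA g hg) h00 h11
    obtain ⟨v, hv, hgv⟩ := eigen_of_root (hdetA g hg) (l := r)
      (by rw [h00, h11]; linear_combination -hr)
    exact ⟨v, r, hv, hgv⟩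
  exfalso
  set N := (Mono F).subgroupOf A
  have hNne : N < ⊤ := lt_top_iff_ne_top.2 fun h => hmono (Subgroup.subgroupOf_eq_top.1 h hg)
  obtain ⟨y, hy, hyN⟩ := SetLike.exists_of_lt (Group.normalizerCondition_of_isNilpotent N hNne)
  have hconj : ((y : GL (Fin 2) F) * t * (y : GL (Fin 2) F)⁻¹) ∈ Mono F :=
    (Subgroup.mem_normalizer_iff.1 hy ⟨t, htA⟩).1 htmono
  set t' := (y : GL (Fin 2) F) * t * (y : GL (Fin 2) F)⁻¹ with ht'
  have hyt : (y : GL (Fin 2) F) * t = t' * y := by rw [ht']; group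
  rcases hconj with ⟨d01, d10⟩ | ⟨d00, d11⟩
  · -- `t'` diagonal: then `y` is monomial
    apply hyN
    change (y : GL (Fin 2) F) ∈ Mono F
    have hmat := congrArg Units.val hyt
    rw [Units.val_mul, Units.val_mul, ht] at hmat
    have e00 := congrFun (congrFun hmat 0) 0
    have e01 := congrFun (congrFun hmat 0) 1
    have e10 := congrFun (congrFun hmat 1) 0
    have e11 := congrFun (congrFun hmat 1) 1
    simp [mul_apply, Fin.sum_univ_two, d01, d10] at e00 e01 e10 e11
    set Y : Matrix (Fin 2) (Fin 2) F := ((y : GL (Fin 2) F) : Matrix (Fin 2) (Fin 2) F) with hY'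
    have hd := hdetA (y : GL (Fin 2) F) y.2
    rw [det_fin_two, ← hY'] at hd
    -- the two rows: in each, at most one non-zero entry
    have r0 : Y 0 0 = 0 ∨ Y 0 1 = 0 := by
      by_contra hc
      push Not at hc
      exact ha2 ((mul_left_cancel₀ hc.1 (e00.trans (mul_comm _ _))).trans
        (mul_left_cancel₀ hc.2 (e01.trans (mul_comm _ _))).symm)
    have r1 : Y 1 0 = 0 ∨ Y 1 1 = 0 := by
      by_contra hc
      push Not at hc
      exact ha2 ((mul_left_cancel₀ hc.1 (e10.trans (mul_comm _ _))).trans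
        (mul_left_cancel₀ hc.2 (e11.trans (mul_comm _ _))).symm)
    rcases r0 with h | h <;> rcases r1 with h' | h'
    · rw [h, h'] at hd; simp at hd
    · exact Or.inr ⟨h, h'⟩
    · exact Or.inl ⟨h, h'⟩
    · rw [h, h'] at hd; simp at hd
  · -- `t'` antidiagonal: then `t²` is scalar
    have hdt := hdetA t' (mul_mem (mul_mem y.2 htA) (inv_mem y.2))
    rw [det_fin_two, d00, d11] at hdt
    have h2 : ((t' * t' : GL (Fin 2) F) : Matrix (Fin 2) (Fin 2) F) =
        (-1 : F) • (1 : Matrix (Fin 2) (Fin 2) F) := by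
      rw [Units.val_mul]
      ext i j
      fin_cases i <;> fin_cases j <;> simp [mul_apply, Fin.sum_univ_two, d00, d11]
      · linear_combination -hdt
      · linear_combination -hdt
    have h3 : ((y : GL (Fin 2) F) : Matrix (Fin 2) (Fin 2) F) *
          ((t * t : GL (Fin 2) F) : Matrix (Fin 2) (Fin 2) F) =
        ((y : GL (Fin 2) F) : Matrix (Fin 2) (Fin 2) F) * ((-1 : F) • 1) := by
      rw [Matrix.mul_smul, mul_one, ← Units.val_mul,
        show (y : GL (Fin 2) F) * (t * t) = t' * t' * y by rw [ht']; group, Units.val_mul, h2]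
      simp
    have h4 := (Units.mul_right_inj (y : GL (Fin 2) F)).1 h3
    rw [Units.val_mul, ht] at h4
    have e := congrFun (congrFun h4 0) 0
    simp [mul_apply, Fin.sum_univ_two] at e
    exact h5 (card_eq_five hq hgen (by linear_combination ((a : F) * a - 1) * e))

theorem false_of_small (hq : 4 ≤ Fintype.card F)
    (G : Subgroup (GL (Fin 2) F ⧸ Subgroup.center (GL (Fin 2) F)))
    (hG : ((Matrix.SpecialLinearGroup.toGL : Matrix.SpecialLinearGroup (Fin 2) F →* GL (Fin 2) F).range).map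
      (QuotientGroup.mk' (Subgroup.center (GL (Fin 2) F))) ≤ G)
    (𝓐 : Finset (Subgroup ↥G)) (hc : IsCover 𝓐)
    (hmin : ∀ 𝓑 : Finset (Subgroup ↥G), IsCover 𝓑 → 𝓐.card ≤ 𝓑.card)
    (hnil : ∀ A ∈ 𝓐, Group.IsNilpotent ↥A) : False := by
  classical
  obtain ⟨p, hp⟩ := CharP.exists F
  have := Fact.mk (CharP.char_is_prime F p)
  choose A hA hsA using fun o : Option F => hc.2 (ofSL G hG (trans2 (lineVec o)))
  have hAinj : Function.Injective A := by
    intro o o' h
    obtain ⟨w, hw0, hw, hw'⟩ := exists_common_vec p (n := 2) (by norm_num)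
      (lift_nilpotent G (hnil _ (hA o)))
      (toGL_mem_lift G hG (hsA o)) (trans2_unipotent _)
      (toGL_mem_lift G hG (h ▸ hsA o' : ofSL G hG (trans2 (lineVec o')) ∈ A o)) (trans2_unipotent _)
    obtain ⟨c, rfl⟩ := trans2_fixed (lineVec_ne_zero o) hw
    obtain ⟨d, hd⟩ := trans2_fixed (lineVec_ne_zero o') hw'
    have hc0 : c ≠ 0 := fun h => hw0 (by simp [h])
    refine lineVec_inj (c := c⁻¹ * d) ?_
    rw [← smul_smul, ← hd, smul_smul, inv_mul_cancel₀ hc0, one_smul]
  have hAle : ∀ o, lift G (A o) ≤ lineStab (lineVec o) := fun o =>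
    le_lineStab p (by norm_num) (lift_nilpotent G (hnil _ (hA o))) (toGL_mem_lift G hG (hsA o))
      (trans2_unipotent _) (fun w hw => trans2_fixed (lineVec_ne_zero o) hw)
  by_cases hGeq : G = ((Matrix.SpecialLinearGroup.toGL : Matrix.SpecialLinearGroup (Fin 2) F →* GL (Fin 2) F).range).map
      (QuotientGroup.mk' (Subgroup.center (GL (Fin 2) F)))
  · -- G is PSL₂
    obtain ⟨a, hgen⟩ := IsCyclic.exists_generator (α := Fˣ)
    let t : Matrix.SpecialLinearGroup (Fin 2) F :=
      ⟨!![(a : F), 0; 0, (a : F)⁻¹], by rw [det_fin_two_of]; simp⟩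
    obtain ⟨B, hB, htB⟩ := hc.2 (ofSL G hG t)
    set B1 := lift G B ⊓
      (Matrix.SpecialLinearGroup.toGL : Matrix.SpecialLinearGroup (Fin 2) F →* GL (Fin 2) F).range
    have hB1 : Group.IsNilpotent ↥B1 :=
      Cfsg.Agent.Lib.CNGroup.Basic.isNilpotent_mono inf_le_left (lift_nilpotent G (hnil B hB))
    have hdetB : ∀ g ∈ B1, (g : Matrix (Fin 2) (Fin 2) F).det = 1 := by
      rintro g ⟨-, s, rfl⟩
      exact s.2
    have htB1 : Matrix.SpecialLinearGroup.toGL t ∈ B1 := ⟨toGL_mem_lift G hG htB, t, rfl⟩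
    have hBA : ∀ o, B ≠ A o := by
      intro o h
      subst h
      obtain ⟨k, hk⟩ := exists_pow_eq_one (p := p)
        (Matrix.SpecialLinearGroup.toGL (trans2 (lineVec o))) (trans2_unipotent _)
      have hto : orderOf (Matrix.SpecialLinearGroup.toGL t) ∣ Fintype.card F - 1 :=
        orderOf_dvd_of_pow_eq_one (torus_pow_eq_one (a := (a : F)) rfl
          (FiniteField.pow_card_sub_one_eq_one (a : F) a.ne_zero))
      have hcop : Nat.Coprime (Fintype.card F - 1) (p ^ k) := by
        refine Nat.Coprime.pow_right _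
          (Nat.Coprime.symm ((Fact.out : p.Prime).coprime_iff_not_dvd.2 ?_))
        intro hd
        obtain ⟨j, _, hj⟩ := FiniteField.card F p
        have h1 : p ∣ Fintype.card F := hj ▸ dvd_pow_self p j.ne_zero
        have h2 := Nat.dvd_sub h1 hd
        rw [Nat.sub_sub_self (by omega : 1 ≤ Fintype.card F)] at h2
        exact (Fact.out : p.Prime).one_lt.ne' (Nat.dvd_one.1 h2)
      have hcomm := Cfsg.Agent.Lib.CNGroup.Basic.commute_of_mem_nilpotent
        (lift_nilpotent G (hnil _ (hA o)))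
        (toGL_mem_lift G hG htB) (toGL_mem_lift G hG (hsA o))
        ((hcop.coprime_dvd_left hto).coprime_dvd_right (orderOf_dvd_of_pow_eq_one hk))
      obtain ⟨h01, h10⟩ := commute_torus_diag hq hgen (t := Matrix.SpecialLinearGroup.toGL t) rfl
        hcomm.symm
      have h0 : lineVec o 0 * lineVec o 0 = 0 := neg_eq_zero.1 h01
      have h1 : lineVec o 1 * lineVec o 1 = 0 := h10
      apply lineVec_ne_zero o
      funext i
      fin_cases i
      · simpa using mul_self_eq_zero.1 h0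
      · simpa using mul_self_eq_zero.1 h1
    refine false_of_replace hc hmin (insert B (Finset.univ.image A))
      (Finset.univ.image fun o => lineSub G (lineVec o)) ?_ ?_ ?_ ?_
    · intro C hC
      simp only [Finset.mem_insert, Finset.mem_image, Finset.mem_univ, true_and] at hC
      rcases hC with rfl | ⟨o, rfl⟩
      · exact hB
      · exact hA o
    · intro M hM
      simp only [Finset.mem_image, Finset.mem_univ, true_and] at hM
      obtain ⟨o, rfl⟩ := hM
      obtain ⟨r, hr⟩ := exists_moves (lineVec_ne_zero o)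
      exact lineSub_ne_top G hG (u := Matrix.SpecialLinearGroup.toGL (trans2 (lineVec o)))
        (trans2_fix _) (fun w hw => trans2_fixed (lineVec_ne_zero o) hw) (lineVec_ne_zero o) hr
    · rw [Finset.card_insert_of_notMem (by simpa using fun o => (hBA o).symm),
        Finset.card_image_of_injective _ hAinj]
      exact Nat.lt_succ_of_le Finset.card_image_le
    · intro C hC g hg
      simp only [Finset.mem_insert, Finset.mem_image, Finset.mem_univ, true_and] at hC
      rcases hC with rfl | ⟨o, rfl⟩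
      · obtain ⟨_, ⟨s, rfl⟩, hs⟩ : (g : GL (Fin 2) F ⧸ Subgroup.center (GL (Fin 2) F)) ∈
            ((Matrix.SpecialLinearGroup.toGL : Matrix.SpecialLinearGroup (Fin 2) F →* GL (Fin 2) F).range).map
            (QuotientGroup.mk' (Subgroup.center (GL (Fin 2) F))) := hGeq.le g.2
        have hsB : Matrix.SpecialLinearGroup.toGL s ∈ B1 := ⟨⟨g, hg, hs.symm⟩, s, rfl⟩
        obtain ⟨v, l, hv, hsv⟩ := exists_eigen hq hgen hB1 hdetB htB1 rfl hsB
        obtain ⟨o, c, hc0, rfl⟩ := exists_lineVec hv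
        refine ⟨_, Finset.mem_image_of_mem _ (Finset.mem_univ o),
          ⟨_, mem_lineStab_of_smul (c := l) (lineVec_ne_zero o) ?_, hs⟩⟩
        rw [mulVec_smul, smul_comm] at hsv
        exact smul_right_injective _ hc0 hsv
      · exact ⟨_, Finset.mem_image_of_mem _ (Finset.mem_univ o), le_of_lift_le G (hAle o) hg⟩
  · -- G bigger than PSL₂: two unipotent members lie in PSL₂
    set H := (Matrix.SpecialLinearGroup.toGL : Matrix.SpecialLinearGroup (Fin 2) F →* GL (Fin 2) F).range
    set M := (H.map (QuotientGroup.mk' (Subgroup.center (GL (Fin 2) F)))).subgroupOf G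
    have hM : M ≠ ⊤ := fun h => hGeq (le_antisymm (Subgroup.subgroupOf_eq_top.1 h) hG)
    have key : ∀ (o : Option F) (b : Bool),
        (trans2 (lineVec o) : Matrix (Fin 2) (Fin 2) F) =
          (if b then !![1, -1; 0, 1] else !![1, 0; 1, 1]) →
        A o ≤ M := by
      intro o b hb x hx
      obtain ⟨g, hg⟩ := QuotientGroup.mk'_surjective _
        (x : GL (Fin 2) F ⧸ Subgroup.center (GL (Fin 2) F))
      obtain ⟨c, hc⟩ := det_isSquare p (lift_nilpotent G (hnil _ (hA o))) b
        (toGL_mem_lift G hG (hsA o)) hb (g := g) ⟨x, hx, hg.symm⟩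
      have hc0 : c ≠ 0 := by
        rintro rfl
        rw [zero_mul] at hc
        exact (g.isUnit.map detMonoidHom).ne_zero hc
      let s : Matrix.SpecialLinearGroup (Fin 2) F := ⟨c⁻¹ • (g : Matrix (Fin 2) (Fin 2) F), by
        rw [det_smul, hc, Fintype.card_fin]; field_simp⟩
      refine ⟨Matrix.SpecialLinearGroup.toGL s, ⟨s, rfl⟩, ?_⟩
      refine Eq.trans ?_ hg
      apply QuotientGroup.eq.2
      let z : GL (Fin 2) F :=
        Units.map (Matrix.scalar (Fin 2)).toMonoidHom (Units.mk0 c hc0)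
      have hsz : Matrix.SpecialLinearGroup.toGL s * z = g := by
        refine Units.ext ?_
        change (c⁻¹ • (g : Matrix (Fin 2) (Fin 2) F)) * Matrix.scalar (Fin 2) c = g
        rw [Matrix.scalar_apply, ← Matrix.smul_one_eq_diagonal, Matrix.mul_smul, mul_one, smul_smul,
          mul_inv_cancel₀ hc0, one_smul]
      rw [← hsz, inv_mul_cancel_left, Subgroup.mem_center_iff]
      intro y
      refine Units.ext ?_
      change (y : Matrix (Fin 2) (Fin 2) F) * Matrix.scalar (Fin 2) c =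
        Matrix.scalar (Fin 2) c * (y : Matrix (Fin 2) (Fin 2) F)
      exact ((Matrix.scalar_commute c (fun r => Commute.all _ r) _).eq).symm
    exact false_of_two_le hc hmin (hA none) (hA (some 0))
      (fun h => by simpa using hAinj h) hM
      (key none true (by simp [trans2, lineVec]))
      (key (some 0) false (by simp [trans2, lineVec]))

end Cfsg.Agent.Lib.NilpotentCover.PGL2
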