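import Cfsg.Prelude.Def_Sz
import Cfsg.Agent.Lib.NilpotentCover.Basic
import Cfsg.Agent.Lib.CNGroup.Basic

/-!
# Nilpotent subgroups of `Sp₄(2^k)` through a regular diagonal element of odd order are diagonal
-/

set_option autoImplicit false

namespace Cfsg.Agent.Lib.NilpotentCover.SzDiag

open Matrix
open Cfsg.Agent.Lib.NilpotentCover.Basic

variable {F : Type*} [Field F]

theorem altForm4_eq_sum (x y : Fin 4 → F) :
    Lie.altForm4 x y = ∑ r : Fin 4, x r * y r.rev := by
  rw [Fin.sum_univ_four]; rfl

/-- Pairing-preserving permutations of four points have exponent four. -/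
theorem pairing_pow_four : ∀ f : Fin 4 → Fin 4, Function.Injective f →
    (∀ i, f i.rev = (f i).rev) → ∀ i, f (f (f (f i))) = i := by
  unfold Function.Injective
  decide +kernel

/-- Elements whose matrix vanishes off the diagonal. -/
def IsDiagMat (X : Matrix (Fin 4) (Fin 4) F) : Prop := ∀ i j, i ≠ j → X i j = 0

theorem commute_diag {l : Fin 4 → F} (hl : Function.Injective l) {X : Matrix (Fin 4) (Fin 4) F}
    (h : X * diagonal l = diagonal l * X) : IsDiagMat X := by
  intro i j hij
  have h1 := congrFun (congrFun h i) j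
  rw [mul_diagonal, diagonal_mul] at h1
  have : X i j * (l j - l i) = 0 := by linear_combination h1
  exact (mul_eq_zero.1 this).resolve_right (sub_ne_zero.2 fun h => hij (hl h).symm)

theorem diag_commute {l : Fin 4 → F} {X : Matrix (Fin 4) (Fin 4) F} (h : IsDiagMat X) :
    X * diagonal l = diagonal l * X := by
  ext i j
  rw [mul_diagonal, diagonal_mul]
  by_cases hij : i = j
  · subst hij; ring
  · rw [h i j hij]; ring

theorem isDiagMat_mul {X Y : Matrix (Fin 4) (Fin 4) F} (hX : IsDiagMat X) (hY : IsDiagMat Y) :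
    IsDiagMat (X * Y) := by
  intro i j hij
  rw [mul_apply]
  refine Finset.sum_eq_zero fun k _ => ?_
  by_cases hk : i = k
  · subst hk; rw [hY i j hij, mul_zero]
  · rw [hX i k hk, zero_mul]

/-- A conjugate of a regular diagonal matrix that is diagonal: the conjugator is monomial, and in
`Sp₄` its permutation respects the pairing; so its fourth power is diagonal. -/
theorem isDiagMat_pow_four {y t : GL (Fin 4) F} {l : Fin 4 → F} (hl : Function.Injective l)
    (ht : (t : Matrix (Fin 4) (Fin 4) F) = diagonal l) (hy : y ∈ Lie.Sp4 F)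
    (hd : IsDiagMat ((y * t * y⁻¹ : GL (Fin 4) F) : Matrix (Fin 4) (Fin 4) F)) :
    IsDiagMat ((y ^ 4 : GL (Fin 4) F) : Matrix (Fin 4) (Fin 4) F) := by
  classical
  set t' := y * t * y⁻¹ with ht'
  set Y : Matrix (Fin 4) (Fin 4) F := (y : Matrix (Fin 4) (Fin 4) F) with hY
  have hdet : Y.det ≠ 0 := (y.isUnit.map detMonoidHom).ne_zero
  have hrow : ∀ i j, Y i j * l j = (t' : Matrix (Fin 4) (Fin 4) F) i i * Y i j := by
    intro i j
    have h := congrArg (fun z : GL (Fin 4) F => (z : Matrix (Fin 4) (Fin 4) F) i j)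
      (show y * t = t' * y by rw [ht']; group)
    simp only [Units.val_mul, ht, mul_diagonal] at h
    rw [h, mul_apply, Finset.sum_eq_single i]
    · intro k _ hk; rw [hd i k hk.symm, zero_mul]
    · simp
  have hrowne : ∀ i, ∃ j, Y i j ≠ 0 := fun i => by
    by_contra hall
    push Not at hall
    exact hdet (det_eq_zero_of_row_eq_zero i hall)
  choose π hπ using hrowne
  have huniq : ∀ i j, Y i j ≠ 0 → j = π i := fun i j h => hl
    ((mul_left_cancel₀ h ((hrow i j).trans (mul_comm _ _))).trans
      (mul_left_cancel₀ (hπ i) ((hrow i (π i)).trans (mul_comm _ _))).symm)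
  have hsurj : Function.Surjective π := by
    intro j
    by_contra hall
    push Not at hall
    exact hdet (det_eq_zero_of_column_eq_zero j fun i => by
      by_contra h; exact hall i (huniq i j h).symm)
  have hinj : Function.Injective π := Finite.injective_iff_surjective.2 hsurj
  have hcol : ∀ r i, r ≠ i → Y r (π i) = 0 := fun r i hr => by
    by_contra h; exact hr (hinj (huniq r (π i) h)).symm
  have hrev : ∀ i, π i.rev = (π i).rev := by
    intro i
    have h := hy (Pi.single (π i) 1) (Pi.single (π i.rev) 1)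
    have hM : (Units.coeHom (Matrix (Fin 4) (Fin 4) F)) y = Y := rfl
    rw [hM, mulVec_single_one, mulVec_single_one, altForm4_eq_sum, altForm4_eq_sum] at h
    rw [Finset.sum_eq_single i (fun r _ hr => by
        change Y r (π i) * _ = 0
        rw [hcol r i hr, zero_mul]) (by simp),
      Finset.sum_eq_single (π i) (fun r _ hr => by simp [Pi.single_eq_of_ne hr]) (by simp)] at h
    change Y i (π i) * Y i.rev (π i.rev) = _ at h
    by_contra hne
    rw [Pi.single_eq_same, Pi.single_eq_of_ne (Ne.symm hne), mul_zero] at h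
    exact mul_ne_zero (hπ i) (hπ i.rev) h
  have hpow : ∀ k : ℕ, ∀ i j, j ≠ π^[k] i →
      ((y ^ k : GL (Fin 4) F) : Matrix (Fin 4) (Fin 4) F) i j = 0 := by
    intro k
    induction k with
    | zero => intro i j hij; simp at hij; simp [one_apply, Ne.symm hij]
    | succ k ih =>
      intro i j hij
      rw [pow_succ, Units.val_mul, mul_apply]
      refine Finset.sum_eq_zero fun r _ => ?_
      by_cases hr : r = π^[k] i
      · subst hr
        rw [Function.iterate_succ_apply'] at hij
        by_contra h
        exact hij (huniq _ _ (right_ne_zero_of_mul h))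
      · rw [ih i r hr, zero_mul]
  intro i j hij
  refine hpow 4 i j ?_
  simp only [Function.iterate_succ_apply', Function.iterate_zero_apply]
  rw [pairing_pow_four π hinj hrev i]
  exact hij.symm

/-- A nilpotent subgroup of `Sp₄` in characteristic 2 through a regular diagonal element of odd order
consists of diagonal matrices. -/
theorem isDiagMat_of_mem [Finite F] [CharP F 2] {A : Subgroup (GL (Fin 4) F)}
    (hA : Group.IsNilpotent ↥A) (hsp : A ≤ Lie.Sp4 F) {t : GL (Fin 4) F} (htA : t ∈ A)
    {l : Fin 4 → F} (hl : Function.Injective l) (ht : (t : Matrix (Fin 4) (Fin 4) F) = diagonal l)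
    {k : ℕ} (hk : ¬ 2 ∣ k) (htk : t ^ k = 1) {g : GL (Fin 4) F} (hg : g ∈ A) :
    IsDiagMat (g : Matrix (Fin 4) (Fin 4) F) := by
  classical
  -- no involutions in A
  have hinv : ∀ x ∈ A, x ^ 2 = 1 → x = 1 := by
    intro x hx h1
    have hcomm := Cfsg.Agent.Lib.CNGroup.Basic.commute_of_mem_nilpotent hA hx htA
      (((Nat.prime_two.coprime_iff_not_dvd.2 hk).coprime_dvd_left
        (orderOf_dvd_of_pow_eq_one h1)).coprime_dvd_right (orderOf_dvd_of_pow_eq_one htk))
    have hd := commute_diag hl (X := (x : Matrix (Fin 4) (Fin 4) F))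
      (by rw [← ht, ← Units.val_mul, hcomm, Units.val_mul])
    refine Units.ext ?_
    ext i j
    rw [Units.val_one]
    by_cases hij : i = j
    · subst hij
      have h2 := congrArg (fun z : GL (Fin 4) F => (z : Matrix (Fin 4) (Fin 4) F) i i) h1
      rw [sq] at h2
      simp only [Units.val_mul, mul_apply, Units.val_one, one_apply_eq] at h2
      rw [Finset.sum_eq_single i (fun r _ hr => by rw [hd i r hr.symm, zero_mul]) (by simp)] at h2
      rw [one_apply_eq]
      exact (mul_self_eq_one_iff.1 h2).elim id fun h => h.trans (CharTwo.neg_eq 1)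
    · rw [one_apply_ne hij, hd i j hij]
  let D : Subgroup ↥A :=
    { carrier := {x | IsDiagMat ((x : GL (Fin 4) F) : Matrix (Fin 4) (Fin 4) F)}
      one_mem' := fun i j h => by simp [h]
      mul_mem' := fun hx hy => isDiagMat_mul hx hy
      inv_mem' := fun {x} hx => by
        have hcom : Commute (x : GL (Fin 4) F) t :=
          Units.ext (by rw [Units.val_mul, Units.val_mul, ht]; exact diag_commute hx)
        exact commute_diag hl (by
          rw [← ht, Subgroup.coe_inv, ← Units.val_mul, ← Units.val_mul, (hcom.inv_left).eq]) }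
  have hD : D = ⊤ := by
    by_contra hne
    obtain ⟨y, hy, hyD⟩ := SetLike.exists_of_lt
      (Group.normalizerCondition_of_isNilpotent D (lt_top_iff_ne_top.2 hne))
    have htD : (⟨t, htA⟩ : ↥A) ∈ D := by
      intro i j hij
      change (t : Matrix (Fin 4) (Fin 4) F) i j = 0
      rw [ht, diagonal_apply_ne _ hij]
    have hconj := (Subgroup.mem_normalizer_iff.1 hy _).1 htD
    have hy4 : y ^ 4 ∈ D := isDiagMat_pow_four hl ht (hsp y.2) hconj
    have hodd : ¬ 2 ∣ orderOf y := by
      rintro ⟨c, hc⟩
      have h1 : (y : GL (Fin 4) F) ^ c = 1 := hinv _ (pow_mem y.2 c) (by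
        rw [← pow_mul, mul_comm, ← hc, ← SubgroupClass.coe_pow, pow_orderOf_eq_one, Subgroup.coe_one])
      have h3 : orderOf y ∣ c := orderOf_dvd_of_pow_eq_one (Subtype.ext (by simpa using h1))
      have h4 := orderOf_pos y
      have h5 := Nat.le_of_dvd (by omega) h3
      omega
    obtain ⟨r, hr⟩ := exists_pow_eq_self_of_coprime (x := y) (n := 4)
      ((Nat.prime_two.coprime_iff_not_dvd.2 hodd).pow_left 2)
    exact hyD (hr ▸ pow_mem hy4 r)
  exact (hD ▸ Subgroup.mem_top (⟨g, hg⟩ : ↥A) : (⟨g, hg⟩ : ↥A) ∈ D)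

end Cfsg.Agent.Lib.NilpotentCover.SzDiag
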